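import Groth.Agent.Pic13.H952.FibrePt
import Groth.Agent.ShStab.K846.ChiPt
import Groth.Agent.Coherent.K45.HomCorep
import Groth.Agent.Dcoh.MonPull292
import Groth.Agent.PerfB.StructFlat
import Groth.Agent.S1025
import Groth.Agent.PerfA.CohSerre

/-!
# Semicontinuity of `Hom` between finite locally free modules in a family

* `nontrivial_iff`: `Hom(g^*E, g^*E') ≠ 0` iff `H⁰(g^*(E' ⊗ E^∨)) ≠ 0`.
-/

set_option autoImplicit false
universe u

open CategoryTheory CategoryTheory.Limits AlgebraicGeometry Opposite MonoidalCategory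

namespace K320.HomSemi

open scoped Groth.Agent.Dcoh.MonCat
open Groth.Agent Groth.Agent.CurvesB.HZero

attribute [local instance] Groth.Agent.Dcoh.MonPull.monPull

/-- `Hom(g^*E, g^*E') ≠ 0` iff `H⁰(g^*(E' ⊗ D)) ≠ 0` for `D` dual to `E`. -/
theorem nontrivial_iff {X Z : Scheme.{u}} (g : Z ⟶ X) (E E' D : X.Modules) [ExactPairing E D] :
    Nontrivial ((Scheme.Modules.pullback g).obj E ⟶ (Scheme.Modules.pullback g).obj E') ↔
      Nontrivial (Coh.HH Z ((Scheme.Modules.pullback g).obj (CohB1.tensorMod E' D)) 0) := by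
  let hp : ExactPairing ((Scheme.Modules.pullback g).obj E) ((Scheme.Modules.pullback g).obj D) :=
    Groth.Agent.Dcoh.MonDual.mapExactPairing (Scheme.Modules.pullback g) E D
  have e1 := K45.HomCorep.homAddEquiv ((Scheme.Modules.pullback g).obj E) ((Scheme.Modules.pullback g).obj D)
    ((Scheme.Modules.pullback g).obj E')
  let e2 : (Scheme.Modules.pullback g).obj E' ⊗ (Scheme.Modules.pullback g).obj D ≅
      (Scheme.Modules.pullback g).obj (CohB1.tensorMod E' D) :=
    Functor.Monoidal.μIso (Scheme.Modules.pullback g) E' D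
  have e3 : (𝟙_ Z.Modules ⟶ (Scheme.Modules.pullback g).obj E' ⊗ (Scheme.Modules.pullback g).obj D) ≃
      (𝟙_ Z.Modules ⟶ (Scheme.Modules.pullback g).obj (CohB1.tensorMod E' D)) :=
    { toFun := fun a => a ≫ e2.hom
      invFun := fun a => a ≫ e2.inv
      left_inv := fun a => by simp
      right_inv := fun a => by simp }
  have e4 := Groth.Agent.Dcoh.FinLocFree.unitEquiv ((Scheme.Modules.pullback g).obj (CohB1.tensorMod E' D))
  have e5 := equivAdd ((Scheme.Modules.pullback g).obj (CohB1.tensorMod E' D))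
  exact (((e1.toEquiv.trans e3).trans e4.toEquiv).trans e5.symm.toEquiv).nontrivial_congr

/-- Finite locally free modules are flat over the base of a flat morphism. -/
theorem isFlatOver_of_flf {X Y : Scheme.{u}} (f : X ⟶ Y) [Flat f] {E : X.Modules}
    (hE : FlatMod.IsFinLocFree E) : FlatMod.IsFlatOver f E :=
  Groth.Agent.Models2.FlatIso.isFlatOver_of_iso f (λ_ E)
    (K45.HomCorep.isFlatOver_tensor_flf f hE (Groth.Agent.PerfB.StructFlat.isFlatOver_structure f))

end K320.HomSemi
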