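import Groth.Agent.Old.H24.LinearSeries
import Groth.Agent.Fdesc.CurveMap
import Groth.Agent.Grpsch.PicGrp
import Groth.Agent.Ega2.TensMon
import Groth.Agent.CurvesB.HZero

/-!
# Degrees of invertible modules on proper integral curves: inverses, sections in degree `≤ 0`
-/

set_option autoImplicit false
universe u
open CategoryTheory CategoryTheory.Limits AlgebraicGeometry Opposite TopologicalSpace
open Groth.Agent.Fdesc.LocGen Groth.Agent.CurvesB.HZero
open Groth.Agent.VarietyA.EulerLES

namespace K320.DegTools

variable (k : Type u) [Field k] {X : Scheme.{u}} [X.Over (Spec (CommRingCat.of k))]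

theorem finrank_congr {M N : X.Modules} (e : M ≅ N) (n : ℕ) :
    Module.finrank k (Coh.HH X M n) = Module.finrank k (Coh.HH X N n) :=
  (equivA k e n).finrank_eq

theorem euler_congr {M N : X.Modules} (e : M ≅ N) : Curv2.euler k X M = Curv2.euler k X N := by
  unfold Curv2.euler
  exact finsum_congr fun n => by rw [finrank_congr k e n]

theorem deg_congr {M N : X.Modules} (e : M ≅ N) (r : ℕ) : Curv2.deg k X M r = Curv2.deg k X N r := by
  unfold Curv2.deg
  rw [euler_congr k e]

theorem deg_structure : Curv2.deg k X (Coh.structureModule X) 1 = 0 := by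
  unfold Curv2.deg
  ring

/-- `H^0(O_X) ≠ 0` on a nonempty scheme. -/
theorem nontrivial_H0_structure [Nonempty X] : Nontrivial (Coh.HH X (Coh.structureModule X) 0) := by
  have : Nontrivial Γ(X, ⊤) := by
    have : Nonempty (⊤ : X.Opens) := ⟨⟨Classical.arbitrary X, trivial⟩⟩
    infer_instance
  exact (equivO X).toEquiv.nontrivial

variable [IsIntegral X] [IsProper (X ↘ (Spec (CommRingCat.of k)))]

theorem deg_inverse (hdim : topologicalKrullDim X ≤ 1) {M N : X.Modules} (hM : PicF.IsInvertible M)
    (hN : PicF.IsInvertible N) (e : Nonempty (CohB1.tensorMod M N ≅ Coh.structureModule X)) :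
    Curv2.deg k X N 1 = - Curv2.deg k X M 1 := by
  obtain ⟨e⟩ := e
  have h1 := Groth.Agent.Old.H24.LinearSeries.deg_tensor k hdim hM hN
  rw [deg_congr k e, deg_structure] at h1
  omega

/-- A nonzero section of an invertible module of degree `≤ 0` trivialises it. -/
theorem nonempty_iso_structure (hdim : topologicalKrullDim X = 1) {L : X.Modules} (hL : PicF.IsInvertible L)
    (h0 : Nontrivial (Coh.HH X L 0)) (hdeg : Curv2.deg k X L 1 ≤ 0) :
    Nonempty (L ≅ Coh.structureModule X) := by
  obtain ⟨x, hx⟩ := exists_ne (0 : Coh.HH X L 0)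
  let m : Γ(L, ⊤) := equivAdd L x
  have hm : m ≠ 0 := (map_ne_zero_iff _ (equivAdd L).injective).2 hx
  have hs : homOf m ≠ 0 := by
    intro h
    apply hm
    have h1 := sec_homOf m ⊤
    rw [h] at h1
    rw [res_refl] at h1
    rw [← h1]
    rfl
  obtain ⟨h1, h2⟩ := Groth.Agent.Fdesc.CurveMap.deg_le k hdim
    (fun M hM n => Groth.Agent.S0002.result k X M hM n) isInvertible_structureModule hL (homOf m) hs
  rw [deg_structure] at h1 h2
  have h3 := h2 (by omega)
  exact ⟨(asIso (homOf m)).symm⟩

/-- An invertible module with a nonzero section has degree `≥ 0`. -/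
theorem deg_nonneg (hdim : topologicalKrullDim X = 1) {L : X.Modules} (hL : PicF.IsInvertible L)
    (h0 : Nontrivial (Coh.HH X L 0)) : 0 ≤ Curv2.deg k X L 1 := by
  by_contra h
  obtain ⟨e⟩ := nonempty_iso_structure k hdim hL h0 (by omega)
  rw [deg_congr k e, deg_structure] at h
  omega

end K320.DegTools
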