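import Groth.Agent.Curves.K320.G12
import Groth.Agent.Curves.K321.SubLoc
import Groth.Agent.Ega2.QCohLocal
import Groth.Agent.Ega3B.ReesId

/-!
# Pencils of degree two in positive genus are base point free

* `isGloballyGenerated`: an invertible module of degree 2 with two independent sections on a regular curve of
  positive genus is generated by its global sections.
-/

set_option autoImplicit false
universe u
open CategoryTheory CategoryTheory.Limits AlgebraicGeometry Opposite TopologicalSpace

namespace K320.BaseFree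

open Groth.Agent Groth.Agent.Grpsch.PicGrp Groth.Agent.Fdesc.LocGen Groth.Agent.CurvesB.HZero
open K532.CurvePic Groth.Agent.VarietyA.DegRank

/-- The free module on `Fin n`. -/
noncomputable abbrev fr (X : Scheme.{u}) (n : ℕ) : X.Modules :=
  SheafOfModules.free.{u} (R := X.ringCatSheaf) (ULift.{u} (Fin n))

section general

variable {X : Scheme.{u}}

/-- The map given by sections. -/
noncomputable def des {M : X.Modules} {n : ℕ} (s : Fin n → Γ(M, ⊤)) : fr X n ⟶ M :=
  Sigma.desc (C := X.Modules) (f := fun _ : ULift.{u} (Fin n) => Coh.structureModule X) fun i => homOf (s i.down)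

/-- The coordinate inclusions. -/
noncomputable def inc (X : Scheme.{u}) {n : ℕ} (i : Fin n) : Coh.structureModule X ⟶ fr X n :=
  Sigma.ι (C := X.Modules) (fun _ : ULift.{u} (Fin n) => Coh.structureModule X) ⟨i⟩

theorem inc_des {M : X.Modules} {n : ℕ} (s : Fin n → Γ(M, ⊤)) (i : Fin n) : inc X i ≫ des s = homOf (s i) :=
  Sigma.ι_desc (C := X.Modules) (f := fun _ : ULift.{u} (Fin n) => Coh.structureModule X) _ _

theorem rk_le_of_mono [IsIntegral X] [IsLocallyNoetherian X] {M N : X.Modules} (i : M ⟶ N) [Mono i]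
    (hN : Coh.IsCoh N) : rk M ≤ rk N := by
  have hS : (ShortComplex.mk i (cokernel.π i) (cokernel.condition i)).ShortExact :=
    { exact := ShortComplex.exact_cokernel i }
  have h2 := rk_add _ hS hN
  change rk N = rk M + rk (cokernel i) at h2
  omega

/-- Invertible subsheaves generated by sections, on integral schemes with principal local rings. -/
theorem exists_image [IsIntegral X] [IsLocallyNoetherian X]
    (hX : ∀ x : X, IsPrincipalIdealRing (X.presheaf.stalk x)) {M : X.Modules} (hM : PicF.IsInvertible M)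
    {n : ℕ} (s : Fin n → Γ(M, ⊤)) (h0 : ∃ j, s j ≠ 0) :
    ∃ (F : X.Modules) (p : fr X n ⟶ F) (i : F ⟶ M) (s' : Fin n → Γ(F, ⊤)), Epi p ∧ Mono i ∧ p ≫ i = des s ∧
      (∀ j, i.app ⊤ (s' j) = s j) ∧ PicF.IsInvertible F := by
  have hcM : Coh.IsCoh M := S2329.isCoh_of_isInvertible hM
  have h1 : FlatMod.IsFinLocFreeOfRank 1 M := Ega2.QCohLocal.isFinLocFreeOfRank_one_iff.2 hM
  let F : X.Modules := image (des s)
  let p : fr X n ⟶ F := factorThruImage (des s)
  let i : F ⟶ M := image.ι (des s)
  have hpi : p ≫ i = des s := image.fac _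
  have hcF : Coh.IsCoh F := Ega3B.ReesId.isCoh_of_epi_of_mono (PerfA.CohSerre.isCoh_free _) hcM p i
  have ht : K321.SubLoc.TorsionFree F := (K321.SubLoc.torsionFree_of_rank h1).of_mono i
  have hs' : ∀ j, i.app ⊤ (sec (inc X j ≫ p) ⊤) = s j := by
    intro j
    have h2 : sec ((inc X j ≫ p) ≫ i) ⊤ = s j := by
      rw [Category.assoc, hpi, inc_des, sec_homOf, res_refl]
    rwa [sec_comp] at h2
  have hrk : rk F = 1 := by
    have h2 := rk_le_of_mono i hcM
    rw [K321.SubLoc.rk_eq h1] at h2
    by_contra h3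
    have h4 : IsZero F := K321.SubLoc.isZero_of_rk hX hcF ht (by omega)
    obtain ⟨j, hj⟩ := h0
    apply hj
    rw [← hs' j]
    have h5 : i = 0 := h4.eq_of_src _ _
    rw [h5]
    rfl
  refine ⟨F, p, i, fun j => sec (inc X j ≫ p) ⊤, inferInstance, inferInstance, hpi, hs', ?_⟩
  have h2 := K321.SubLoc.isFinLocFreeOfRank hX hcF ht
  rw [hrk] at h2
  exact Ega2.QCohLocal.isFinLocFreeOfRank_one_iff.1 h2

end general

variable {k : Type u} [Field k] {X : Scheme.{u}} [X.Over (Spec (CommRingCat.of k))]

/-- Pencils of degree two in positive genus are base point free. -/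
theorem isGloballyGenerated [IsIntegral X] [IsProper (X ↘ (Spec (CommRingCat.of k)))] (hX : IsCurve k X)
    (hP : ∀ x : X, IsPrincipalIdealRing (X.presheaf.stalk x)) (hg : gen k X ≠ 0)
    {M : X.Modules} (hM : PicF.IsInvertible M) (hd : Curv2.deg k X M 1 = 2)
    (s : Fin 2 → LinSer.Sect X M) (hs : LinSer.LinIndep k X M s) : Curv2.IsGloballyGenerated M := by
  have hnoeth : IsNoetherian X := hX.noeth
  have hcM : Coh.IsCoh M := S2329.isCoh_of_isInvertible hM
  have hne : ∃ j, s j ≠ 0 := by
    by_contra hcon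
    push Not at hcon
    have h1 := hs (fun _ => 1) (by simp [hcon])
    exact one_ne_zero (congrFun h1 0)
  obtain ⟨F, p, i, s', hp, hi, hpi, hs', hF⟩ := exists_image hP hM s hne
  have hcF : Coh.IsCoh F := S2329.isCoh_of_isInvertible hF
  have hind : LinSer.LinIndep k X F s' := by
    intro c hc
    apply hs c
    have hc' : gl k X (c 0) • (show Γ(F, ⊤) from s' 0) + gl k X (c 1) • (show Γ(F, ⊤) from s' 1) = 0 := by
      rw [← Fin.sum_univ_two (fun j => gl k X (c j) • (show Γ(F, ⊤) from s' j))]
      exact hc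
    have h1 := congrArg (i.app ⊤) hc'
    rw [map_add, map_zero, Scheme.Modules.Hom.app_smul, Scheme.Modules.Hom.app_smul, hs', hs'] at h1
    refine (Fin.sum_univ_two _).trans ?_
    exact h1
  have hfin := finite_HH hX hF 0
  have h2 := K320.G12.two_le_finrank s' hind
  obtain ⟨h3, h4⟩ := K321.SubLoc.euler_le_of_mono k hX.dim.le i hcF hcM (by
    rw [K321.SubLoc.rk_eq (Ega2.QCohLocal.isFinLocFreeOfRank_one_iff.2 hM),
      K321.SubLoc.rk_eq (Ega2.QCohLocal.isFinLocFreeOfRank_one_iff.2 hF)])
  have hdF : Curv2.deg k X F 1 = deg k X (mk F hF) := (deg_mk k X hX.dim hF).symm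
  have hhF := h_mk k X 0 hF
  by_cases h5 : Curv2.euler k X F = Curv2.euler k X M
  · have := h4 h5
    have h6 : Epi (des s) := by rw [← hpi]; exact epi_comp _ _
    exact ⟨_, des s, h6⟩
  · exfalso
    have h6 : Curv2.deg k X F 1 ≤ 1 := by
      rw [Curv2.deg] at hd ⊢
      omega
    have h7 : 0 < h k X 0 (mk F hF) := by omega
    have h8 := h0_le_deg hX h7
    rw [← hdF, hhF] at h8
    exact hg (gen_eq_zero_of_h0_eq hX h7 (by rw [← hdF, hhF]; omega) (by omega))

end K320.BaseFree
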