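import Groth.Agent.Curves.K320.IsoPer
import Mathlib.FieldTheory.IntermediateField.Adjoin.Algebra
import Mathlib.FieldTheory.IntermediateField.Adjoin.Basic
import Mathlib.LinearAlgebra.Charpoly.Basic
import Mathlib.RingTheory.Algebraic.Basic
import Mathlib.RingTheory.Algebraic.Integral
import Mathlib.Tactic.Positivity
import Mathlib.Tactic.Linarith

/-!
# Castelnuovo's bound in a function field, in every characteristic

`Sys V f`: a filtration `V 0 ⊆ V 1 ⊆ ...` by finite dimensional `k`-subspaces of a field `K` (sections of `O(n)` divided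
by the `n`-th power of a section `s₀`) and `f = s₁ / s₀`. The growth `dim V (n+1) - dim V n` is the dimension of the
`k(f)`-span of `V (n+1)`, and the linear isoperimetric inequality gives `≥ min (d, 2 n + 3)`.
-/

set_option autoImplicit false

open Module Submodule Polynomial IntermediateField

namespace K320.CastAlg

variable {k K : Type*} [Field k] [Field K] [Algebra k K]

/-- A filtration by finite dimensional subspaces. -/
structure Sys (V : ℕ → Submodule k K) (f : K) : Prop where
  fin : ∀ n, FiniteDimensional k (V n)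
  mul : ∀ m n, V m * V n ≤ V (m + n)
  one : (1 : K) ∈ V 1
  mem : f ∈ V 1
  tr : Transcendental k f
  q : ∀ m r, r ∈ V (m + 1) → f * r ∈ V (m + 1) → r ∈ V m

namespace Sys

variable {V : ℕ → Submodule k K} {f : K} (h : Sys V f)

include h

theorem ne_zero : f ≠ 0 := fun h0 => h.tr (h0 ▸ isAlgebraic_zero)

theorem le_succ (n : ℕ) : V n ≤ V (n + 1) := by
  intro v hv
  have := h.mul n 1 (Submodule.mul_mem_mul hv h.one)
  rwa [mul_one] at this

theorem mono : Monotone V := monotone_nat_of_le_succ h.le_succ

theorem f_mul_mem {n : ℕ} {v : K} (hv : v ∈ V n) : f * v ∈ V (n + 1) := by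
  have := h.mul n 1 (Submodule.mul_mem_mul hv h.mem)
  rwa [mul_comm] at this

theorem f_pow_mul_mem {n : ℕ} {v : K} (hv : v ∈ V n) (i : ℕ) : f ^ i * v ∈ V (n + i) := by
  induction i with
  | zero => simpa using hv
  | succ i ih =>
    rw [pow_succ', mul_assoc, ← add_assoc]
    exact h.f_mul_mem ih

theorem q_iter {n : ℕ} {r : K} (hf : f * r ∈ V (n + 1)) : ∀ m, r ∈ V (n + m) → r ∈ V n := by
  intro m
  induction m with
  | zero => exact id
  | succ m ih =>
    intro hr
    apply ih
    exact h.q _ _ hr (h.mono (by omega) hf)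

theorem aeval_mul_mem {n : ℕ} {v : K} (hv : v ∈ V n) (P : k[X]) {N : ℕ} (hN : P.natDegree ≤ N) :
    aeval f P * v ∈ V (n + N) := by
  rw [aeval_eq_sum_range, Finset.sum_mul]
  refine Submodule.sum_mem _ fun i hi => ?_
  rw [smul_mul_assoc]
  refine Submodule.smul_mem _ _ (h.mono ?_ (h.f_pow_mul_mem hv i))
  have := Finset.mem_range.1 hi
  omega

/-- `f V n` as a subspace -/
theorem exists_compl (n : ℕ) : ∃ U : Submodule k K, U ≤ V (n + 1) ∧
    (V n).map (LinearMap.mulLeft k f) ⊓ U = ⊥ ∧ (V n).map (LinearMap.mulLeft k f) ⊔ U = V (n + 1) := by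
  obtain ⟨U', hU'⟩ := Submodule.exists_isCompl ((V n).map (LinearMap.mulLeft k f))
  have hle : (V n).map (LinearMap.mulLeft k f) ≤ V (n + 1) := by
    rintro _ ⟨v, hv, rfl⟩
    exact h.f_mul_mem hv
  refine ⟨U' ⊓ V (n + 1), inf_le_right, ?_, ?_⟩
  · rw [← inf_assoc, hU'.inf_eq_bot, bot_inf_eq]
  · rw [← sup_inf_assoc_of_le _ hle, hU'.sup_eq_top, top_inf_eq]

theorem finrank_compl {n : ℕ} {U : Submodule k K} (h1 : (V n).map (LinearMap.mulLeft k f) ⊓ U = ⊥)
    (h2 : (V n).map (LinearMap.mulLeft k f) ⊔ U = V (n + 1)) (hU : U ≤ V (n + 1)) :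
    finrank k (V n) + finrank k U = finrank k (V (n + 1)) := by
  have := h.fin n
  have := h.fin (n + 1)
  have : FiniteDimensional k U := Submodule.finiteDimensional_of_le hU
  have h3 := Submodule.finrank_sup_add_finrank_inf_eq ((V n).map (LinearMap.mulLeft k f)) U
  rw [h1, h2, finrank_bot, add_zero] at h3
  rw [h3]
  congr 1
  exact LinearEquiv.finrank_eq (Submodule.equivMapOfInjective (LinearMap.mulLeft k f)
    (mul_right_injective₀ h.ne_zero) (V n))

/-- Independence of the complement: polynomial version. -/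
theorem poly_zero {n : ℕ} {U : Submodule k K} (h1 : (V n).map (LinearMap.mulLeft k f) ⊓ U = ⊥)
    (hU : U ≤ V (n + 1)) {ι : Type*} [Fintype ι] {u : ι → K} (hu : ∀ j, u j ∈ U) (hli : LinearIndependent k u) :
    ∀ (N : ℕ) (P : ι → k[X]), (∀ j, (P j).degree < N) → ∑ j, aeval f (P j) * u j = 0 → ∀ j, P j = 0 := by
  intro N
  induction N with
  | zero =>
    intro P hP _ j
    by_contra h0
    have h2 := hP j
    rw [degree_eq_natDegree h0] at h2
    exact absurd (by exact_mod_cast h2 : (P j).natDegree < 0) (Nat.not_lt_zero _)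
  | succ N ih =>
    intro P hP hsum
    let r : K := - ∑ j, aeval f (divX (P j)) * u j
    have hr : f * r = ∑ j, (P j).coeff 0 • u j := by
      have h2 : ∀ j, aeval f (P j) * u j = f * (aeval f (divX (P j)) * u j) + (P j).coeff 0 • u j := by
        intro j
        conv_lhs => rw [← X_mul_divX_add (P j)]
        rw [map_add, map_mul, aeval_X, aeval_C, Algebra.smul_def]
        ring
      rw [Finset.sum_congr rfl fun j _ => h2 j, Finset.sum_add_distrib, ← Finset.mul_sum] at hsum
      change f * (- ∑ j, aeval f (divX (P j)) * u j) = _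
      rw [mul_neg]
      exact neg_eq_of_add_eq_zero_right hsum
    have hrU : f * r ∈ U := by
      rw [hr]
      exact Submodule.sum_mem _ fun j _ => Submodule.smul_mem _ _ (hu j)
    obtain ⟨M, hM⟩ : ∃ M, ∀ j, (divX (P j)).natDegree ≤ M :=
      ⟨Finset.univ.sup fun j => (divX (P j)).natDegree, fun j =>
        Finset.le_sup (f := fun j => (divX (P j)).natDegree) (Finset.mem_univ j)⟩
    have hrV : r ∈ V (n + (1 + M)) := by
      refine Submodule.neg_mem _ (Submodule.sum_mem _ fun j _ => ?_)
      have := h.aeval_mul_mem (hU (hu j)) (divX (P j)) (hM j)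
      rwa [add_assoc] at this
    have hrn : r ∈ V n := h.q_iter (hU hrU) _ hrV
    have h0 : f * r = 0 := by
      have : f * r ∈ (V n).map (LinearMap.mulLeft k f) ⊓ U := ⟨⟨r, hrn, rfl⟩, hrU⟩
      rw [h1] at this
      exact this
    have hc : ∀ j, (P j).coeff 0 = 0 := by
      rw [hr] at h0
      exact Fintype.linearIndependent_iff.1 hli _ h0
    have hr0 : r = 0 := (mul_eq_zero.1 h0).resolve_left h.ne_zero
    have hz := ih (fun j => divX (P j)) (fun j => ?_) (neg_eq_zero.1 hr0)
    · intro j
      rw [← X_mul_divX_add (P j), hz j, hc j]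
      simp
    · by_cases hPj : P j = 0
      · rw [hPj, divX_zero, degree_zero]
        exact WithBot.bot_lt_coe N
      · have h3 := degree_divX_lt hPj
        have h4 := hP j
        rw [degree_eq_natDegree hPj] at h4
        have h6 : (P j).natDegree < N + 1 := by exact_mod_cast h4
        have h5 : (P j).degree ≤ N := by
          rw [degree_eq_natDegree hPj]
          exact_mod_cast Nat.lt_succ_iff.1 h6
        exact lt_of_lt_of_le h3 h5

end Sys

end K320.CastAlg
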