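import Groth.Agent.JacVar.K532.CurvePic
import Groth.Agent.Etcore.CurveNorm621
import Groth.Agent.Models.H36.NormRel
import Groth.Agent.Pi1C.LefReduce

/-!
# Normalization of an irreducible component of a reduced proper curve

`exists_norm`: `X` proper and reduced of dimension one over an algebraically closed field, `C` an irreducible component of
dimension one: there is a smooth proper curve `Y` and a finite morphism `ν : Y ⟶ X` over `k` with image `C`, which is an
isomorphism over a nonempty open of `X`.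
-/

set_option autoImplicit false
universe u
open CategoryTheory CategoryTheory.Limits AlgebraicGeometry TopologicalSpace Opposite

namespace K320.CompNorm

open Groth.Agent

variable (k : Type u) [Field k] [IsAlgClosed k] (X : Scheme.{u}) [X.Over (Spec (CommRingCat.of k))]
  [IsProper (X ↘ Spec (CommRingCat.of k))] [IsReduced X]

include k in
theorem exists_open (C : Set X) (hC : C ∈ irreducibleComponents (X : Type u)) :
    ∃ W : X.Opens, (W : Set X).Nonempty ∧ (W : Set X) ⊆ C ∧ W ≤ (X ↘ Spec (CommRingCat.of k)).smoothLocus := by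
  have hN : IsNoetherian X := CurvesC.CurveCoh.noetherianSpace k X
  have hfp : LocallyOfFinitePresentation (X ↘ Spec (CommRingCat.of k)) := inferInstance
  have hd : Dense ((X ↘ Spec (CommRingCat.of k)).smoothLocus : Set X) :=
    (X ↘ Spec (CommRingCat.of k)).dense_smoothLocus_of_perfectField
  have hfin := NoetherianSpace.finite_irreducibleComponents (α := (X : Type u))
  have hO : IsClosed (⋃₀ (irreducibleComponents (X : Type u) \ {C})) := by
    rw [Set.sUnion_eq_biUnion]
    exact hfin.sdiff.isClosed_biUnion fun W hW ↦ isClosed_of_mem_irreducibleComponents W hW.1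
  let V₀ : X.Opens := ⟨(⋃₀ (irreducibleComponents (X : Type u) \ {C}))ᶜ, hO.isOpen_compl⟩
  have hV₀ : (V₀ : Set X).Nonempty := by
    obtain ⟨η, hη⟩ := QuasiSober.sober hC.1 (isClosed_of_mem_irreducibleComponents C hC)
    refine ⟨η, ?_⟩
    rintro ⟨Z, ⟨hZ1, hZ2⟩, hηZ⟩
    apply hZ2
    have h1 : C ⊆ Z := by
      rw [← hη.def]
      exact closure_minimal (Set.singleton_subset_iff.mpr hηZ) (isClosed_of_mem_irreducibleComponents Z hZ1)
    exact (hC.2 hZ1.1 h1).antisymm h1
  refine ⟨V₀ ⊓ (X ↘ Spec (CommRingCat.of k)).smoothLocus, hd.inter_open_nonempty _ V₀.isOpen hV₀, ?_, inf_le_right⟩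
  rintro x ⟨hx, -⟩
  have h3 : x ∈ ⋃₀ irreducibleComponents (X : Type u) := by
    rw [sUnion_irreducibleComponents]; trivial
  obtain ⟨Z, hZ1, hxZ⟩ := h3
  by_cases hZ : Z = C
  · exact hZ ▸ hxZ
  · exact absurd ⟨Z, ⟨hZ1, hZ⟩, hxZ⟩ hx

theorem exists_norm (hdim : topologicalKrullDim X ≤ 1) (C : Set X) (hC : C ∈ irreducibleComponents (X : Type u))
    (hC1 : topologicalKrullDim C = 1) :
    ∃ (Y : Scheme.{u}) (_ : Y.Over (Spec (CommRingCat.of k))) (ν : Y ⟶ X),
      ν ≫ (X ↘ Spec (CommRingCat.of k)) = Y ↘ Spec (CommRingCat.of k) ∧ IsFinite ν ∧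
      K532.CurvePic.IsCurve k Y ∧ Set.range ν = C ∧
      ∃ V : X.Opens, IsIso (ν ∣_ V) ∧ ((ν ⁻¹ᵁ V : Y.Opens) : Set Y).Nonempty := by
  have hN : IsNoetherian X := CurvesC.CurveCoh.noetherianSpace k X
  obtain ⟨W, hW, hWC, hWs⟩ := exists_open k X C hC
  have hWirr : IsIrreducible (W : Set X) := ⟨hW, hC.1.2.open_subset W.isOpen hWC⟩
  have h1 : IrreducibleSpace W := isIrreducible_iff_irreducibleSpace.mp hWirr
  have h2 : IsReduced (W : Scheme.{u}) := isReduced_of_isOpenImmersion W.ι
  have h3 : IsIntegral (W : Scheme.{u}) := isIntegral_of_irreducibleSpace_of_isReduced _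
  have h4 : Smooth (W.ι ≫ (X ↘ Spec (CommRingCat.of k))) := by
    have hfp : LocallyOfFinitePresentation (X ↘ Spec (CommRingCat.of k)) := inferInstance
    rw [← Scheme.Hom.smoothLocus_eq_top_iff, ← Scheme.Hom.preimage_smoothLocus_eq, eq_top_iff]
    rintro ⟨x, hx⟩ -
    exact hWs hx
  obtain ⟨Y, i, π, hi, hπ, hiπ, hY, hsm, hdY⟩ :=
    Etcore.CurveNorm621.exists_normalization k (X ↘ Spec (CommRingCat.of k)) W.ι hdim
  have hdom : IsDominant i := by
    refine ⟨?_⟩
    exact (i.isOpenEmbedding.isOpen_range.dense (Set.range_nonempty i))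
  have hiso : IsIso (π ∣_ W) := by
    have h5 := Models.H36.NormRel.isIso_restrict i π W.ι hiπ
    rwa [Scheme.Opens.opensRange_ι] at h5
  have hrange : Set.range π = C := by
    have hcl : IsClosed (Set.range π) := π.isClosedMap.isClosed_range
    have hWr : (W : Set X) ⊆ Set.range π := by
      intro x hx
      refine ⟨i ⟨x, hx⟩, ?_⟩
      rw [← Scheme.Hom.comp_apply, hiπ]
      rfl
    have hCW : C ⊆ closure (W : Set X) := by
      have := hC.1.2
      exact subset_closure_inter_of_isPreirreducible_of_isOpen hC.1.2 W.isOpen (by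
        obtain ⟨x, hx⟩ := hW
        exact ⟨x, hWC hx, hx⟩) |>.trans (closure_mono Set.inter_subset_right)
    refine Set.Subset.antisymm ?_ (hCW.trans (closure_minimal hWr hcl))
    rintro _ ⟨y, rfl⟩
    have hy : y ∈ closure (Set.range i) := by rw [i.denseRange.closure_range]; trivial
    have h6 : π y ∈ closure (π '' Set.range i) := image_closure_subset_closure_image π.continuous ⟨y, hy, rfl⟩
    refine closure_minimal ?_ (isClosed_of_mem_irreducibleComponents C hC) h6
    rintro _ ⟨_, ⟨x, rfl⟩, rfl⟩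
    rw [← Scheme.Hom.comp_apply, hiπ]
    exact hWC x.2
  have hdY1 : topologicalKrullDim Y = 1 := by
    have h7 := Pi1C.LefReduce.dim_closure_eq π (genericPoint Y)
    have h8 : closure ({π (genericPoint Y)} : Set X) = C := by
      rw [← hrange, ← Set.image_univ, ← (genericPoint_spec Y).def,
        ← π.isClosedMap.closure_image_eq_of_continuous π.continuous, Set.image_singleton]
    rw [h8, hC1, (genericPoint_spec Y).def] at h7
    rw [← h7]
    exact (IsHomeomorph.topologicalKrullDim_eq _ (Homeomorph.Set.univ (Y : Type u)).isHomeomorph).symm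
  let _ : Y.Over (Spec (CommRingCat.of k)) := ⟨π ≫ (X ↘ Spec (CommRingCat.of k))⟩
  refine ⟨Y, inferInstance, π, rfl, hπ, K532.CurvePic.isCurve_of_isAlgClosed k Y ⟨?_, hsm, hY, hdY1⟩, hrange, W, hiso, ?_⟩
  · exact inferInstanceAs (IsProper (π ≫ (X ↘ Spec (CommRingCat.of k))))
  · obtain ⟨x, hx⟩ := hW
    refine ⟨i ⟨x, hx⟩, ?_⟩
    change π (i ⟨x, hx⟩) ∈ W
    rw [← Scheme.Hom.comp_apply, hiπ]
    exact hx

end K320.CompNorm
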