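import Mathlib.AlgebraicGeometry.AlgClosed.Basic
import Mathlib.Topology.KrullDimension

/-!
# Rational points of curves over algebraically closed fields
-/

set_option autoImplicit false
universe u

open CategoryTheory CategoryTheory.Limits AlgebraicGeometry

namespace K320.CurvePts

theorem exists_section {k : Type u} [Field k] [IsAlgClosed k] {X : Scheme.{u}} (f : X ⟶ Spec (CommRingCat.of k))
    [LocallyOfFiniteType f] [Nonempty X] : ∃ s : Spec (CommRingCat.of k) ⟶ X, s ≫ f = 𝟙 _ := by
  have : JacobsonSpace X := LocallyOfFiniteType.jacobsonSpace f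
  have h : (closedPoints X).Nonempty := by
    rw [Set.nonempty_iff_ne_empty]
    intro h0
    have h1 := closure_closedPoints (X := X)
    rw [h0, closure_empty] at h1
    exact Set.empty_ne_univ h1
  obtain ⟨x, hx⟩ := h
  exact ⟨pointOfClosedPoint f x hx, pointOfClosedPoint_comp f x hx⟩

theorem isClosed_point {k : Type u} [Field k] [IsAlgClosed k] {T : Scheme.{u}} (q : T ⟶ Spec (CommRingCat.of k))
    [LocallyOfFiniteType q] (t₀ : Spec (CommRingCat.of k) ⟶ T) (ht₀ : t₀ ≫ q = 𝟙 _) :
    IsClosed ({t₀ (IsLocalRing.closedPoint k)} : Set T) :=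
  (pointEquivClosedPoint q ⟨t₀, ht₀⟩).2

/-- The generic point of a positive dimensional integral scheme is not closed. -/
theorem generic_ne {T : Scheme.{u}} [IsIntegral T] (hT : topologicalKrullDim T = 1) {x : T}
    (hx : IsClosed ({x} : Set T)) : genericPoint T ≠ x := by
  intro h
  have h1 : closure ({genericPoint T} : Set T) = Set.univ := genericPoint_closure T
  rw [h, hx.closure_eq] at h1
  have : Subsingleton T := by
    refine ⟨fun a b => ?_⟩
    have ha : a ∈ ({x} : Set T) := h1 ▸ Set.mem_univ a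
    have hb : b ∈ ({x} : Set T) := h1 ▸ Set.mem_univ b
    rw [Set.mem_singleton_iff.1 ha, Set.mem_singleton_iff.1 hb]
  have h2 := topologicalKrullDim_zero_of_discreteTopology T
  rw [hT] at h2
  exact absurd h2 (by decide)

/-- On a curve there are rational points in each nonempty open, away from a given one. -/
theorem exists_point {k : Type u} [Field k] [IsAlgClosed k] {T : Scheme.{u}} (q : T ⟶ Spec (CommRingCat.of k))
    [LocallyOfFiniteType q] [IsIntegral T] (hT : topologicalKrullDim T = 1)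
    (t₀ : Spec (CommRingCat.of k) ⟶ T) (ht₀ : t₀ ≫ q = 𝟙 _) (U : T.Opens) (hU : (U : Set T).Nonempty) :
    ∃ t : Spec (CommRingCat.of k) ⟶ T, t ≫ q = 𝟙 _ ∧ t ≠ t₀ ∧ t (IsLocalRing.closedPoint k) ∈ U := by
  have hcl := isClosed_point q t₀ ht₀
  let V : T.Opens := U ⊓ ⟨{t₀ (IsLocalRing.closedPoint k)}ᶜ, hcl.isOpen_compl⟩
  have hη : genericPoint T ∈ V :=
    ⟨((genericPoint_spec T).mem_open_set_iff U.isOpen).2 (by simpa using hU), generic_ne hT hcl⟩
  have : Nonempty V := ⟨⟨_, hη⟩⟩
  obtain ⟨s, hs⟩ := exists_section (V.ι ≫ q)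
  have hmem : (s ≫ V.ι) (IsLocalRing.closedPoint k) ∈ V := (s (IsLocalRing.closedPoint k)).2
  refine ⟨s ≫ V.ι, by rw [Category.assoc, hs], ?_, hmem.1⟩
  intro h
  exact hmem.2 (by rw [h]; rfl)

end K320.CurvePts
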