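import Groth.Agent.Picfga.LineHom
import Groth.Agent.Dix.IdealModCartier
import Groth.Agent.Fdesc.LocGenTensor
import Groth.Agent.PerfA.QCohEpi
import Groth.Agent.CohqB.FiniteType2
import Groth.Agent.SDiv.K474.FittSheaf
import Groth.Agent.Ega2.QCohLocal
import Groth.Agent.Fitt.K360.Fiber

/-!
# The Fitting ideal of the cokernel of a map of invertible modules

* `nonempty_iso`: for `0 → A → B → Q → 0` exact with `A`, `B` invertible, `B ⊗ Fitt₀(Q) ≅ A`.
-/

set_option autoImplicit false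
universe u
open CategoryTheory CategoryTheory.Limits AlgebraicGeometry Opposite TopologicalSpace

namespace K320.FittTwist

open Groth.Agent Groth.Agent.Fdesc.LocGen Groth.Agent.Dix.IdealModCartier Groth.Agent.Picfga.LineHom
open Groth.Agent.CohqB.FiniteType2

variable {X : Scheme.{u}}

theorem app_injective {A B : X.Modules} (φ : A ⟶ B) [Mono φ] (U : X.Opens) : Function.Injective (φ.app U) :=
  appLinear_injective φ U

variable {A B Q : X.Modules} (hA : PicF.IsInvertible A) (hB : PicF.IsInvertible B)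
  (hQ : Coh.IsQCoh Q) (hQf : CohB1.IsFT Q) (φ : A ⟶ B) [Mono φ] (π : B ⟶ Q) [Epi π] (w : φ ≫ π = 0)
  (hex : (ShortComplex.mk φ π w).Exact)

include hA hB hQ hQf hex in
/-- Local description of the Fitting ideal. -/
theorem exists_data (y : X) :
    ∃ (U : X.affineOpens) (a : Γ(A, U.1)) (b : Γ(B, U.1)) (h : Γ(X, U.1))
      (t : Γ(ClSub.idealMod (Fitt.sheafIdeal Q 0), U.1)), y ∈ U.1 ∧
      IsGen a ∧ IsGen b ∧ φ.app U.1 a = h • b ∧ GenOn (Fitt.sheafIdeal Q 0) h ∧
      val (Fitt.sheafIdeal Q 0) t = h := by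
  obtain ⟨U₁, a, hy₁, ha⟩ := (isInvertible_iff A).mp hA y
  obtain ⟨U₂, b, hy₂, hb⟩ := (isInvertible_iff B).mp hB y
  obtain ⟨U, hyU, hU⟩ := exists_affine_mem_le (U₁ ⊓ U₂) y ⟨hy₁, hy₂⟩
  have ha' := ha.res (hU.trans inf_le_left)
  have hb' := hb.res (hU.trans inf_le_right)
  set a' := res A (hU.trans inf_le_left) a
  set b' := res B (hU.trans inf_le_right) b
  obtain ⟨h, hh⟩ := hb'.exists_eq (φ.app U.1 a')
  have hinj : Function.Injective (φ.app U.1) := app_injective φ U.1
  have hnz : h ∈ nonZeroDivisors Γ(X, U.1) := by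
    rw [mem_nonZeroDivisors_iff_right]
    intro r hr
    apply ha'.ext
    apply hinj
    rw [Scheme.Modules.Hom.app_smul, hh, smul_smul, hr, zero_smul, zero_smul, map_zero]
  have hqB : Coh.IsQCoh B := Ega2.QCohLocal.isQCoh_of_isInvertible hB
  have hsurj : Function.Surjective (π.app U.1) := PerfA.QCohEpi.app_surjective_of_epi π U.2
  have hexU := sections_exact (ShortComplex.mk φ π w) hex U.1
  let g : Γ(X, U.1) →ₗ[Γ(X, U.1)] Γ(Q, U.1) :=
    (appLinear π U.1) ∘ₗ (LinearMap.toSpanSingleton Γ(X, U.1) Γ(B, U.1) b')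
  have hg : Function.Surjective g := by
    intro q
    obtain ⟨m, rfl⟩ := hsurj q
    obtain ⟨r, rfl⟩ := hb'.exists_eq m
    exact ⟨r, rfl⟩
  have hker : LinearMap.ker g = Ideal.span {h} := by
    ext r
    rw [LinearMap.mem_ker, Ideal.mem_span_singleton]
    constructor
    · intro hr
      obtain ⟨m, hm⟩ := (hexU (r • b')).1 hr
      obtain ⟨c, rfl⟩ := ha'.exists_eq m
      refine ⟨c, hb'.ext ?_⟩
      have hm' : φ.app U.1 (c • a') = r • b' := hm
      rw [← hm', Scheme.Modules.Hom.app_smul, hh, smul_smul, mul_comm]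
    · rintro ⟨c, rfl⟩
      refine (hexU ((h * c) • b')).2 ⟨c • a', ?_⟩
      change φ.app U.1 (c • a') = _
      rw [Scheme.Modules.Hom.app_smul, hh, smul_smul, mul_comm]
  have hfin := finite_sections_of_isFT Q hQf U.2
  have hI : (Fitt.sheafIdeal Q 0).ideal U = Ideal.span {h} := by
    rw [SDiv.K474.FittSheaf.sheafIdeal_ideal Q hQ hQf]
    have e : (Γ(X, U.1) ⧸ Ideal.span {h}) ≃ₗ[Γ(X, U.1)] Γ(Q, U.1) :=
      (Submodule.quotEquivOfEq _ _ hker.symm).trans (g.quotKerEquivOfSurjective hg)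
    rw [← K360.FittBasic.ideal_congr e 0, K360.FittFiber.ideal_zero_quotient]
  obtain ⟨t, ht⟩ := exists_val_eq (Fitt.sheafIdeal Q 0) U (hI ▸ Ideal.mem_span_singleton_self h)
  exact ⟨U, a', b', h, t, hyU, ha', hb', hh, genOn_of_affine hnz hI, ht⟩

include hA hB hQ hQf hex in
/-- `B ⊗ Fitt₀(Q) ≅ A` for `0 → A → B → Q → 0` exact. -/
theorem nonempty_iso : Nonempty (CohB1.tensorMod B (ClSub.idealMod (Fitt.sheafIdeal Q 0)) ≅ A) := by
  choose U a b h t hy ha hb hh hg ht using exists_data hA hB hQ hQf φ π w hex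
  have gt : ∀ x, IsGen (t x) := fun x => isGen_of_genOn ((ht x).symm ▸ hg x)
  have hcov : (⨆ x, (U x).1) = ⊤ := top_le_iff.1 fun x _ => Opens.mem_iSup.2 ⟨x, hy x⟩
  obtain ⟨ψ, -⟩ := exists_iso (L := CohB1.tensorMod B (ClSub.idealMod (Fitt.sheafIdeal Q 0)))
    (N := A) hcov (e := fun x => tmul (b x) (t x))
    (fun x => (hb x).tmul (gt x)) (n := fun x => a x)
    (trans_of_inf (fun x => (hb x).tmul (gt x)) (by
      intro x y
      obtain ⟨c, hc⟩ := ((hb y).res (inf_le_right : (U x).1 ⊓ (U y).1 ≤ _)).exists_eq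
        (res _ inf_le_left (b x))
      obtain ⟨v, hv⟩ := ((ha y).res (inf_le_right : (U x).1 ⊓ (U y).1 ≤ _)).exists_eq
        (res _ inf_le_left (a x))
      have h1 : ores (inf_le_left : (U x).1 ⊓ (U y).1 ≤ _) (h x) * c = v * ores inf_le_right (h y) := by
        apply ((hb y).res (inf_le_right : (U x).1 ⊓ (U y).1 ≤ _)).ext
        rw [mul_smul, ← hc, ← res_smul, ← hh, ← app_res, hv, Scheme.Modules.Hom.app_smul, app_res, hh, res_smul,
          mul_smul]
      have h2 : c • res _ (inf_le_left : (U x).1 ⊓ (U y).1 ≤ _) (t x) = v • res _ inf_le_right (t y) := by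
        apply val_injective
        rw [val_smul, val_smul, val_res, val_res, ht, ht, ← h1, mul_comm]
      refine ⟨v, ?_, hv⟩
      rw [res_tmul, res_tmul, hc, smul_tmul, ← tmul_smul, h2, tmul_smul])) (fun x => ha x)
  exact ⟨ψ⟩

end K320.FittTwist
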