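import Groth.Agent.S11352
import Groth.Agent.JacVar.K532.CurvePic
import Groth.Agent.VarietyB.GenLocusTensor
import Groth.Prelude.Def_LinSer

/-!
# Uniqueness of the `g^1_2` in genus `≥ 2`

* `pencil`: the base-point-free pencil trick for arbitrary classes;
* `h0_le_three`: `h⁰ ≤ 3` in degree 4 for genus `≥ 2`;
* `main`: two globally generated classes of degree 2 with `h⁰ ≥ 2` agree.
-/

set_option autoImplicit false
universe u
open CategoryTheory CategoryTheory.Limits AlgebraicGeometry Opposite TopologicalSpace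

namespace K320.G12

open Groth.Agent Groth.Agent.Grpsch.PicGrp Groth.Agent.Fdesc.LocGen Groth.Agent.CurvesB.HZero
open K532.CurvePic Groth.Agent.Old.H24.MulHom Groth.Agent.VarietyA.EulerLES

variable {k : Type u} [Field k] {X : Scheme.{u}} [X.Over (Spec (CommRingCat.of k))]

/-- The base-point-free pencil trick. -/
theorem pencil_le (hX : IsCurve k X) {N L : X.Modules} (hN : PicF.IsInvertible N) (hL : PicF.IsInvertible L)
    {s t : Γ(L, ⊤)} (hst : Covers s t) :
    2 * Module.finrank k (Coh.HH X (CohB1.tensorMod N L) 0) ≤ Module.finrank k (Coh.HH X N 0) +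
      Module.finrank k (Coh.HH X (CohB1.tensorMod (CohB1.tensorMod N L) L) 0) := by
  have f0 := finite_HH hX hN 0
  have f1 := finite_HH hX (isInvertible_tensorMod hN hL) 0
  have f2 := finite_HH hX (isInvertible_tensorMod (isInvertible_tensorMod hN hL) hL) 0
  have key : ∀ (F : X.Modules) (m : Γ(L, ⊤)) (x : Coh.HH X F 0),
      equivAdd (CohB1.tensorMod F L) (mapA k (mulHom F m) 0 x) = tmul (equivAdd F x) m := by
    intro F m x
    refine (equivAdd_map (mulHom F m) x).trans ?_
    rw [mulHom_app, res_refl]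
  refine Groth.Agent.Old.H24.LinAlg.two_mul_le (k := k)
    (mapA k (mulHom N s) 0) (mapA k (mulHom N t) 0)
    (mapA k (mulHom (CohB1.tensorMod N L) t) 0)
    (mapA k (mulHom (CohB1.tensorMod N L) s) 0) fun a b hab => ?_
  have h1 := congrArg (equivAdd (CohB1.tensorMod (CohB1.tensorMod N L) L)) hab
  have h2 := ((key (CohB1.tensorMod N L) t a).symm.trans h1).trans
    (key (CohB1.tensorMod N L) s b)
  obtain ⟨c, hc1, hc2⟩ := hst.exists_eq (F := N) hL _ _ h2
  refine ⟨(equivAdd N).symm c, ?_, ?_⟩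
  · apply (equivAdd (CohB1.tensorMod N L)).injective
    refine (key _ _ _).trans ?_
    rw [AddEquiv.apply_symm_apply]
    exact hc1
  · apply (equivAdd (CohB1.tensorMod N L)).injective
    refine (key _ _ _).trans ?_
    rw [AddEquiv.apply_symm_apply]
    exact hc2

theorem pencil (hX : IsCurve k X) {L : X.Modules} (hL : PicF.IsInvertible L)
    {s t : Γ(L, ⊤)} (hst : Covers s t) (c : Pic X) :
    2 * h k X 0 (c * mk L hL) ≤ h k X 0 c + h k X 0 (c * mk L hL * mk L hL) := by
  obtain ⟨N, hN, rfl⟩ := exists_mk c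
  rw [mk_mul_mk, mk_mul_mk, h_mk, h_mk, h_mk]
  exact pencil_le hX hN hL hst

/-- Clifford-type bound from the inequality `h⁰(c) + h⁰(d) ≤ h⁰(c d) + 1`. -/
theorem h0_add_le [IsAlgClosed k] (hX : IsCurve k X) (hreg : ∀ x : X, IsRegularLocalRing (X.presheaf.stalk x))
    {c d : Pic X} (hc : 0 < h k X 0 c) (hd : 0 < h k X 0 d) :
    h k X 0 c + h k X 0 d ≤ h k X 0 (c * d) + 1 := by
  have := hX.proper
  have := hX.integral
  obtain ⟨N, hN, rfl⟩ := exists_mk c
  obtain ⟨M, hM, rfl⟩ := exists_mk d
  exact S11352.result k X hX.dim hreg N M hN hM ((nontrivial_iff hX hN 0).2 hc) ((nontrivial_iff hX hM 0).2 hd)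

theorem h0_le_three [IsAlgClosed k] (hX : IsCurve k X) (hreg : ∀ x : X, IsRegularLocalRing (X.presheaf.stalk x))
    (hg : 2 ≤ gen k X) {c : Pic X} (hc : deg k X c = 4) : h k X 0 c ≤ 3 := by
  by_contra hlt
  have h1 := rr hX c
  have h2 := serre hX c
  have h3 := h0_add_le hX hreg (c := c) (d := om hX * c⁻¹) (by omega) (by omega)
  have h4 : c * (om hX * c⁻¹) = om hX := by rw [mul_comm, inv_mul_cancel_right]
  rw [h4, h0_om] at h3
  omega

/-- Two classes of degree two with base point free pencils agree in genus `≥ 2`. -/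
theorem eq_of_covers [IsAlgClosed k] (hX : IsCurve k X) (hreg : ∀ x : X, IsRegularLocalRing (X.presheaf.stalk x))
    (hg : 2 ≤ gen k X) {L : X.Modules} (hL : PicF.IsInvertible L) (hdL : deg k X (mk L hL) = 2)
    {s t : Γ(L, ⊤)} (hst : Covers s t) {c : Pic X} (hdc : deg k X c = 2) (hc : 2 ≤ h k X 0 c) :
    c = mk L hL := by
  have h1 := pencil hX hL hst (c * (mk L hL)⁻¹)
  rw [inv_mul_cancel_right] at h1
  have h2 : deg k X (c * mk L hL) = 4 := by
    rw [deg_mul hX, hdc, hdL]; rfl
  have h3 := h0_le_three hX hreg hg h2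
  have h4 : 0 < h k X 0 (c * (mk L hL)⁻¹) := by omega
  have h5 := eq_one_of_deg_nonpos hX h4 (by rw [deg_mul hX, deg_inv hX, hdc, hdL]; omega)
  rwa [mul_inv_eq_one] at h5

/-- `k`-independent global sections give independent elements of `H⁰`. -/
theorem linearIndependent {L : X.Modules} {n : ℕ} (s : Fin n → LinSer.Sect X L)
    (hs : LinSer.LinIndep k X L s) : LinearIndependent k (fun i => (equivAdd L).symm (s i)) := by
  rw [Fintype.linearIndependent_iff]
  intro c hc
  have h2 := congrArg (equivAdd L) hc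
  rw [map_sum, map_zero] at h2
  have h4 : ∀ i, equivAdd L (c i • (equivAdd L).symm (s i)) =
      (Coh.toGlobal (X ↘ Spec (CommRingCat.of k)) (c i)) • s i := by
    intro i
    rw [equivAdd_smul_over, AddEquiv.apply_symm_apply]
    rfl
  have h3 : c = 0 := hs c ((Finset.sum_congr rfl fun i _ => h4 i).symm.trans h2)
  intro i
  rw [h3]
  rfl

/-- Two independent global sections. -/
theorem two_le_finrank {L : X.Modules} [Module.Finite k (Coh.HH X L 0)] (s : Fin 2 → LinSer.Sect X L)
    (hs : LinSer.LinIndep k X L s) : 2 ≤ Module.finrank k (Coh.HH X L 0) := by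
  have h1 := linearIndependent s hs
  simpa using h1.fintype_card_le_finrank

/-- Two independent sections of a globally generated module with `h⁰ = 2` generate it. -/
theorem covers_of_globGen (hX : IsCurve k X) {L : X.Modules} (hL : PicF.IsInvertible L)
    (hgg : Curv2.IsGloballyGenerated L) (h2 : Module.finrank k (Coh.HH X L 0) = 2)
    (s : Fin 2 → LinSer.Sect X L) (hs : LinSer.LinIndep k X L s) : Covers (L := L) (s 0) (s 1) := by
  have hfin := finite_HH hX hL 0
  have h1 := linearIndependent s hs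
  have hspan := h1.span_eq_top_of_card_eq_finrank' (by simpa using h2.symm)
  intro x
  obtain ⟨φ, hφ⟩ := Groth.Agent.VarietyB.GenLocusTensor.exists_mem_genLocus hL hgg x
  obtain ⟨V, hxV, hV⟩ := (mem_genLocus_iff _ _).1 hφ
  obtain ⟨c, hc⟩ := (Submodule.mem_span_range_iff_exists_fun k).1
    (hspan ▸ (Submodule.mem_top : (equivAdd L).symm (sec φ ⊤) ∈ (⊤ : Submodule k (Coh.HH X L 0))))
  have hc' : sec φ ⊤ = gl k X (c 0) • (show Γ(L, ⊤) from s 0) + gl k X (c 1) • (show Γ(L, ⊤) from s 1) := by
    have := congrArg (equivAdd L) hc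
    rw [AddEquiv.apply_symm_apply, Fin.sum_univ_two, map_add, equivAdd_smul_over, equivAdd_smul_over,
      AddEquiv.apply_symm_apply, AddEquiv.apply_symm_apply] at this
    exact this.symm
  obtain ⟨a, ha⟩ := hV.exists_eq (res L (le_top : V ≤ ⊤) (s 0))
  obtain ⟨b, hb⟩ := hV.exists_eq (res L (le_top : V ≤ ⊤) (s 1))
  have e1 : sec φ V = (ores le_top (gl k X (c 0)) * a + ores le_top (gl k X (c 1)) * b) • sec φ V := by
    have h3 := res_sec φ (le_top : V ≤ ⊤)
    rw [hc', map_add, res_smul, res_smul] at h3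
    conv_lhs => rw [← h3]
    rw [add_smul, mul_smul, mul_smul]
    congr 2
  have e2 : (1 : Γ(X, V)) = ores le_top (gl k X (c 0)) * a + ores le_top (gl k X (c 1)) * b := by
    apply hV.ext
    rw [one_smul]
    exact e1
  have e3 : x ∈ X.basicOpen a ∨ x ∈ X.basicOpen b := by
    by_contra hcon
    push Not at hcon
    have e4 := congrArg (X.presheaf.germ V x hxV) e2
    rw [map_one, map_add, map_mul, map_mul] at e4
    rw [X.mem_basicOpen _ _ hxV, X.mem_basicOpen _ _ hxV] at hcon
    have m1 : X.presheaf.germ V x hxV a ∈ IsLocalRing.maximalIdeal (X.presheaf.stalk x) := hcon.1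
    have m2 : X.presheaf.germ V x hxV b ∈ IsLocalRing.maximalIdeal (X.presheaf.stalk x) := hcon.2
    have m3 := Ideal.add_mem _ (Ideal.mul_mem_left _ (X.presheaf.germ V x hxV (ores le_top (gl k X (c 0)))) m1)
      (Ideal.mul_mem_left _ (X.presheaf.germ V x hxV (ores le_top (gl k X (c 1)))) m2)
    rw [← e4] at m3
    exact (Ideal.ne_top_iff_one _).1 (IsLocalRing.maximalIdeal.isMaximal _).ne_top m3
  rcases e3 with hx | hx
  · refine ⟨X.basicOpen a, hx, Or.inl ?_⟩
    have h5 : res L (le_top : X.basicOpen a ≤ ⊤) (s 0) = ores (X.basicOpen_le a) a • res L (X.basicOpen_le a) (sec φ V) := by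
      rw [← res_smul, ← ha, res_res]
    rw [h5]
    exact (hV.res _).unit_smul (X.toRingedSpace.isUnit_res_basicOpen a)
  · refine ⟨X.basicOpen b, hx, Or.inr ?_⟩
    have h5 : res L (le_top : X.basicOpen b ≤ ⊤) (s 1) = ores (X.basicOpen_le b) b • res L (X.basicOpen_le b) (sec φ V) := by
      rw [← res_smul, ← hb, res_res]
    rw [h5]
    exact (hV.res _).unit_smul (X.toRingedSpace.isUnit_res_basicOpen b)

end K320.G12
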