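import Groth.Agent.Curves.K319.PicCD
import Groth.Agent.Curves.K319.Invol
import Groth.Agent.S0383

/-!
# Translations on a curve of genus one

* `exists_pts`: a class of degree two on a regular proper curve of genus one is a sum of two points;
* `exists_translation`: any two classes of degree two differ by an automorphism of the curve.
-/

set_option autoImplicit false
universe u

open CategoryTheory CategoryTheory.Limits AlgebraicGeometry MonoidalCategory CartesianMonoidalCategory MonObj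
  TopologicalSpace

namespace K320.GenusOne

open Groth.Agent Groth.Agent.Grpsch.Transl K319.Setup K319.Invol Groth.Agent.Grpsch.PicGrp K532.CurvePic
open K319.PicCD (Reg Pts cd)

variable (k : Type u) [Field k] [IsAlgClosed k] (X : Scheme.{u}) [X.Over (Spec (CommRingCat.of k))]
    [IsIntegral X] [IsProper (X ↘ (Spec (CommRingCat.of k)))]

theorem exists_pts (hX : Reg X) (hg : Curv2.genus k X = 1) (c : Pic X) (hc : deg k X c = 2) :
    ∃ A B : Pts X, c = K319.PicCD.pt k X hX A * K319.PicCD.pt k X hX B := by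
  have hd : (cd k X hX).deg (Additive.ofMul c) = 2 := hc
  have hgg : (cd k X hX).g = 1 := hg
  have h1 := (cd k X hX).rr (Additive.ofMul c)
  rw [hd, hgg] at h1
  obtain ⟨m, hm⟩ := (cd k X hX).exists_cl (Additive.ofMul c) (by intro h0; rw [h0] at h1; push_cast at h1; omega)
  have h2 := (cd k X hX).deg_cl m
  rw [hm, hd] at h2
  obtain ⟨A, B, rfl⟩ := Multiset.card_eq_two.1 (by exact_mod_cast h2.symm)
  refine ⟨A, B, ?_⟩
  have h3 : (cd k X hX).cl {A, B} = (cd k X hX).p A + (cd k X hX).p B := by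
    simp [K319.CD.cl]
  rw [h3] at hm
  exact (Additive.ofMul.injective hm).symm

section Group

variable (hX : Reg X) [GrpObj (Over.mk (X ↘ (Spec (CommRingCat.of k))))]
  [LocallyOfFiniteType (Over.mk (X ↘ (Spec (CommRingCat.of k)))).hom]

/-- the closed point of a rational point -/
noncomputable def cp (a : 𝟙_ (Over (Spec (CommRingCat.of k))) ⟶ Over.mk (X ↘ (Spec (CommRingCat.of k)))) : Pts X :=
  ⟨a.left (IsLocalRing.closedPoint k), isClosed_point k _ a⟩

omit [IsIntegral X] [IsProper (X ↘ (Spec (CommRingCat.of k)))] [GrpObj (Over.mk (X ↘ (Spec (CommRingCat.of k))))] in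
theorem pt_cp (a : 𝟙_ (Over (Spec (CommRingCat.of k))) ⟶ Over.mk (X ↘ (Spec (CommRingCat.of k)))) :
    Grpsch.Transl.pt (Over.mk (X ↘ (Spec (CommRingCat.of k)))) (cp k X a).1 (cp k X a).2 = a := by
  apply point_ext
  rw [pt_apply]
  rfl

omit [IsIntegral X] [IsProper (X ↘ (Spec (CommRingCat.of k)))] [GrpObj (Over.mk (X ↘ (Spec (CommRingCat.of k))))] in
theorem cp_pt (A : Pts X) : cp k X (Grpsch.Transl.pt (Over.mk (X ↘ (Spec (CommRingCat.of k)))) A.1 A.2) = A := by
  apply Subtype.ext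
  exact pt_apply _ _ _

/-- the class of a rational point -/
noncomputable def cls (a : 𝟙_ (Over (Spec (CommRingCat.of k))) ⟶ Over.mk (X ↘ (Spec (CommRingCat.of k)))) : Pic X :=
  K319.PicCD.pt k X hX (cp k X a)

theorem cls_mul [IsCommMonObj (Over.mk (X ↘ (Spec (CommRingCat.of k))))]
    (a b : 𝟙_ (Over (Spec (CommRingCat.of k))) ⟶ Over.mk (X ↘ (Spec (CommRingCat.of k)))) :
    cls k X hX a * cls k X hX b = cls k X hX (a * b) * cls k X hX 1 := by
  have hη : η[Over.mk (X ↘ (Spec (CommRingCat.of k)))] =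
      Grpsch.Transl.pt (Over.mk (X ↘ (Spec (CommRingCat.of k)))) (cp k X 1).1 (cp k X 1).2 := by
    rw [pt_cp, Hom.one_def, toUnit_unique (toUnit (𝟙_ _)) (𝟙 _), Category.id_comp]
  obtain ⟨e⟩ := tensor_ideal k X hX.dim hX.reg (cp k X 1).1 (cp k X a).1 (cp k X b).1 (cp k X (a * b)).1
    (cp k X 1).2 (cp k X a).2 (cp k X b).2 (cp k X (a * b)).2 hη (by rw [pt_cp, pt_cp, pt_cp])
  unfold cls K319.PicCD.pt
  rw [← mul_inv, ← mul_inv]
  congr 1
  rw [mk_mul_mk, mk_mul_mk, mk_eq_iff]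
  exact ⟨e⟩

/-- translations -/
theorem pull_cls (c a : 𝟙_ (Over (Spec (CommRingCat.of k))) ⟶ Over.mk (X ↘ (Spec (CommRingCat.of k)))) :
    pull (rightTr (Over.mk (X ↘ (Spec (CommRingCat.of k)))) c).hom.left (cls k X hX (a * c)) = cls k X hX a := by
  let t : X ≅ X := (Over.forget _).mapIso (rightTr (Over.mk (X ↘ (Spec (CommRingCat.of k)))) c)
  have h1 : t.hom (cp k X a).1 = (cp k X (a * c)).1 := by
    have h2 := point_rightTr (Over.mk (X ↘ (Spec (CommRingCat.of k)))) c a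
    have h3 := congr(($h2).left (IsLocalRing.closedPoint k))
    rw [comp_point] at h3
    exact h3
  have h4 := comap_I t (cp k X a).2 (cp k X (a * c)).2 h1
  have hE := isEff_I k X hX.dim hX.reg (cp k X (a * c)).1 (cp k X (a * c)).2
  have hE' := isEff_I k X hX.dim hX.reg (cp k X a).1 (cp k X a).2
  obtain ⟨h5⟩ := Dix.IdealModCartier.pullback_idealMod t.hom hE (by rw [h4]; exact hE')
  unfold cls K319.PicCD.pt
  rw [map_inv]
  congr 1
  change pull t.hom _ = _
  rw [pull_mk, mk_eq_iff]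
  rw [h4] at h5
  exact ⟨h5⟩

end Group

/-- Any two classes of degree two on a curve of genus one differ by a translation. -/
theorem exists_translation (hX : Reg X) (hg : Curv2.genus k X = 1) (c d : Pic X) (hc : deg k X c = 2)
    (hd : deg k X d = 2) :
    ∃ σ : X ≅ X, σ.hom ≫ (X ↘ Spec (CommRingCat.of k)) = X ↘ Spec (CommRingCat.of k) ∧ pull σ.hom d = c := by
  let E := Over.mk (X ↘ (Spec (CommRingCat.of k)))
  have hEs : Smooth E.hom := smooth k X hX.reg
  have hEp : IsProper E.hom := ‹IsProper (X ↘ (Spec (CommRingCat.of k)))›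
  have hEi : IsIntegral E.left := ‹IsIntegral X›
  have hEr : GeometricallyIrreducible E.hom :=
    Fdesc.BaseField.geometricallyIrreducible_of_isAlgClosed (X ↘ (Spec (CommRingCat.of k)))
  have hEg : GeometricallyIntegral E.hom := Flat2B.SmoothGeom.geometricallyIntegral_of_smooth E.hom
  obtain ⟨A₁, B₁, h1⟩ := exists_pts k X hX hg c hc
  obtain ⟨A₂, B₂, h2⟩ := exists_pts k X hX hg d hd
  obtain ⟨G, hη, hcomm⟩ := S7916.result k E hX.dim hg (Grpsch.Transl.pt E A₁.1 A₁.2)
  let a₁ := Grpsch.Transl.pt E A₁.1 A₁.2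
  let b₁ := Grpsch.Transl.pt E B₁.1 B₁.2
  let a₂ := Grpsch.Transl.pt E A₂.1 A₂.2
  let b₂ := Grpsch.Transl.pt E B₂.1 B₂.2
  have h1' : c = cls k X hX a₁ * cls k X hX b₁ := by
    unfold cls
    rw [cp_pt, cp_pt]
    exact h1
  have h2' : d = cls k X hX a₂ * cls k X hX b₂ := by
    unfold cls
    rw [cp_pt, cp_pt]
    exact h2
  -- the half point
  obtain ⟨t, ht⟩ : ∃ t : 𝟙_ (Over (Spec (CommRingCat.of k))) ⟶ E, t ^ 2 = (a₂ * b₂) * (a₁ * b₁)⁻¹ := by
    have hsurj : Surjective ((𝟙 E ^ 2).left) := S0383.result k E 2 (by norm_num)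
    let q : 𝟙_ (Over (Spec (CommRingCat.of k))) ⟶ E := (a₂ * b₂) * (a₁ * b₁)⁻¹
    have hF : IsClosed ((𝟙 E ^ 2).left ⁻¹' {(cp k X q).1}) := (cp k X q).2.preimage (𝟙 E ^ 2).left.continuous
    have hcomp : CompactSpace E.left := QuasiCompact.compactSpace_of_compactSpace E.hom
    obtain ⟨x₀, hx₀⟩ := hsurj.surj (cp k X q).1
    obtain ⟨x, hx, hxc⟩ := hF.exists_closed_singleton ⟨x₀, hx₀⟩
    refine ⟨Grpsch.Transl.pt E x hxc, ?_⟩
    apply point_ext
    have h3 : Grpsch.Transl.pt E x hxc ^ 2 = Grpsch.Transl.pt E x hxc ≫ (𝟙 E ^ 2) := by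
      rw [MonObj.comp_pow, Category.comp_id]
    rw [h3, comp_point, pt_apply]
    exact hx
  refine ⟨(Over.forget _).mapIso (rightTr E t), Over.w (rightTr E t).hom, ?_⟩
  change pull (rightTr E t).hom.left d = c
  have h3 := pull_cls k X hX t (a₂ * t⁻¹)
  have h4 := pull_cls k X hX t (b₂ * t⁻¹)
  rw [inv_mul_cancel_right] at h3 h4
  rw [h2', map_mul]
  refine (congrArg₂ (· * ·) h3 h4).trans ?_
  rw [h1']
  have h5 : a₂ * b₂ = t ^ 2 * (a₁ * b₁) := by rw [ht, inv_mul_cancel_right]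
  have h6 : a₂ * t⁻¹ * (b₂ * t⁻¹) = a₁ * b₁ := by
    calc a₂ * t⁻¹ * (b₂ * t⁻¹) = (a₂ * b₂) * (t ^ 2)⁻¹ := by
          rw [pow_two, mul_inv, _root_.mul_mul_mul_comm]
      _ = a₁ * b₁ := by rw [h5, mul_comm (t ^ 2), mul_inv_cancel_right]
  refine (cls_mul k X hX (a₂ * t⁻¹) (b₂ * t⁻¹)).trans (Eq.trans ?_ (cls_mul k X hX a₁ b₁).symm)
  exact congrArg (fun z => cls k X hX z * cls k X hX 1) h6

end K320.GenusOne
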