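import Mathlib.LinearAlgebra.BilinearForm.Orthogonal
import Mathlib.Algebra.Algebra.Operations
import Mathlib.LinearAlgebra.FiniteDimensional.Lemmas
import Mathlib.FieldTheory.IntermediateField.Basic
import Mathlib.LinearAlgebra.Dual.Lemmas

/-!
# The linear isoperimetric inequality (Hamidoune, Bachoc-Serra-Zémor)

`main`: let `L / F` be a finite field extension and `A ⊆ L` an `F`-subspace of dimension at least three which contains
`1` and generates `L` as an `F`-algebra. Then `dim (A B) ≥ dim B + 2` for every nonzero subspace `B` with `A B ≠ L`.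
-/

set_option autoImplicit false

open Module Submodule

namespace K320.IsoPer

variable {F L : Type*} [Field F] [Field L] [Algebra F L] [FiniteDimensional F L]

/-- a subspace which counts -/
def Cand (A B : Submodule F L) : Prop := B ≠ ⊥ ∧ A * B ≠ ⊤

/-- `B` is an atom of `A` of expansion `κ`. -/
structure Atom (A B : Submodule F L) (κ : ℕ) : Prop where
  cand : Cand A B
  eq : finrank F ↥(A * B) = finrank F B + κ
  le : ∀ B', Cand A B' → finrank F B' + κ ≤ finrank F ↥(A * B')
  min : ∀ B', Cand A B' → finrank F ↥(A * B') = finrank F B' + κ → finrank F B ≤ finrank F B'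

variable {A : Submodule F L}

omit [FiniteDimensional F L] in
theorem le_mul (h1 : (1 : L) ∈ A) (B : Submodule F L) : B ≤ A * B := by
  intro b hb
  have := Submodule.mul_mem_mul h1 hb
  rwa [one_mul] at this

theorem exists_atom (h1 : (1 : L) ∈ A) {B₀ : Submodule F L} (h0 : Cand A B₀) :
    ∃ B κ, Atom A B κ ∧ finrank F B₀ + κ ≤ finrank F ↥(A * B₀) := by
  classical
  let P : ℕ → Prop := fun κ => ∃ B, Cand A B ∧ finrank F ↥(A * B) = finrank F B + κ
  have hP : ∀ B, Cand A B → P (finrank F ↥(A * B) - finrank F B) := fun B hB =>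
    ⟨B, hB, by have := Submodule.finrank_mono (le_mul h1 B); omega⟩
  have hex : ∃ κ, P κ := ⟨_, hP B₀ h0⟩
  let κ := Nat.find hex
  let Q : ℕ → Prop := fun b => ∃ B, Cand A B ∧ finrank F ↥(A * B) = finrank F B + κ ∧ finrank F B = b
  have hQ : ∃ b, Q b := by
    obtain ⟨B, hB, h⟩ := Nat.find_spec hex
    exact ⟨_, B, hB, h, rfl⟩
  obtain ⟨B, hB, hB', hb⟩ := Nat.find_spec hQ
  have hle : ∀ B', Cand A B' → finrank F B' + κ ≤ finrank F ↥(A * B') := by
    intro B' hB'
    have h2 := Nat.find_min' hex (hP B' hB')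
    have := Submodule.finrank_mono (le_mul h1 B')
    have h3 : κ ≤ finrank F ↥(A * B') - finrank F B' := h2
    omega
  refine ⟨B, κ, ⟨hB, hB', hle, ?_⟩, hle B₀ h0⟩
  intro B' h h'
  rw [hb]
  exact Nat.find_min' hQ ⟨B', h, h', rfl⟩

omit [FiniteDimensional F L] in
theorem finrank_pos_of_ne_bot {B : Submodule F L} [FiniteDimensional F B] (h : B ≠ ⊥) : 1 ≤ finrank F B := by
  rw [Nat.one_le_iff_ne_zero]
  intro h0
  exact h (Submodule.finrank_eq_zero.1 h0)

/-- duality -/
theorem Atom.two_mul_le {B : Submodule F L} {κ : ℕ} (hB : Atom A B κ) :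
    2 * finrank F B + κ ≤ finrank F L := by
  obtain ⟨lam, hlam⟩ := Module.Projective.exists_dual_ne_zero F (one_ne_zero : (1 : L) ≠ 0)
  let φ : LinearMap.BilinForm F L := (LinearMap.mul F L).compr₂ lam
  have hφ : ∀ x y, φ x y = lam (x * y) := fun x y => rfl
  have hker : φ.ker = ⊥ := by
    rw [eq_bot_iff]
    intro x hx
    by_contra h0
    have h0' : x ≠ 0 := h0
    have h2 : φ x = 0 := hx
    have h3 := congrArg (fun l : L →ₗ[F] F => l x⁻¹) h2
    change φ x x⁻¹ = 0 at h3
    rw [hφ, mul_inv_cancel₀ h0'] at h3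
    exact hlam h3
  have hfr : ∀ W : Submodule F L, finrank F W + finrank F (φ.orthogonal W) = finrank F L := by
    intro W
    have h := LinearMap.BilinForm.finrank_add_finrank_orthogonal' (B := φ) W
    rw [hker, inf_bot_eq, finrank_bot, add_zero] at h
    exact h
  obtain ⟨B', hB'⟩ : ∃ B' : Submodule F L, B' = φ.orthogonal (A * B) := ⟨_, rfl⟩
  have h1 := hfr (A * B)
  rw [← hB'] at h1
  have h2 := hfr B
  have hlt : finrank F ↥(A * B) < finrank F L := Submodule.finrank_lt hB.cand.2
  have hB1 := finrank_pos_of_ne_bot hB.cand.1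
  have hle : A * B' ≤ φ.orthogonal B := by
    rw [Submodule.mul_le]
    intro a ha y hy
    rw [hB'] at hy
    rw [LinearMap.BilinForm.mem_orthogonal_iff]
    intro x hx
    have h3 := (LinearMap.BilinForm.mem_orthogonal_iff.1 hy) (a * x) (Submodule.mul_mem_mul ha hx)
    change lam (a * x * y) = 0 at h3
    change lam (x * (a * y)) = 0
    rw [← h3]
    congr 1
    ring
  have h3 := Submodule.finrank_mono hle
  have hc : Cand A B' := by
    constructor
    · intro h
      have : finrank F B' = 0 := by rw [h, finrank_bot]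
      omega
    · intro h
      rw [h, finrank_top] at h3
      omega
  have h4 := hB.le B' hc
  have h5 : finrank F ↥(A * B') = finrank F B' + κ := by
    have := hB.eq
    omega
  have h6 := hB.min B' hc h5
  have := hB.eq
  omega

/-- Two atoms which meet are equal. -/
theorem Atom.eq_of_inf_ne_bot {B₁ B₂ : Submodule F L} {κ : ℕ} (h₁ : Atom A B₁ κ) (h₂ : Atom A B₂ κ)
    (hi : B₁ ⊓ B₂ ≠ ⊥) : B₁ = B₂ := by
  have e12 : finrank F B₁ = finrank F B₂ :=
    le_antisymm (h₁.min _ h₂.cand h₂.eq) (h₂.min _ h₁.cand h₁.eq)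
  have hd := h₁.two_mul_le
  have c1 : Cand A (B₁ ⊓ B₂) := ⟨hi, fun h => h₁.cand.2 (top_le_iff.1 (h ▸ mul_le_mul' le_rfl inf_le_left))⟩
  have m1 := h₁.le _ c1
  have p1 := finrank_pos_of_ne_bot hi
  have s1 := Submodule.finrank_sup_add_finrank_inf_eq (A * B₁) (A * B₂)
  rw [← Submodule.mul_sup] at s1
  have s2 := Submodule.finrank_sup_add_finrank_inf_eq B₁ B₂
  have s3 : finrank F ↥(A * (B₁ ⊓ B₂)) ≤ finrank F ↥(A * B₁ ⊓ A * B₂) :=
    Submodule.finrank_mono (le_inf (mul_le_mul' le_rfl inf_le_left) (mul_le_mul' le_rfl inf_le_right))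
  have q1 := h₁.eq
  have q2 := h₂.eq
  have c2 : Cand A (B₁ ⊔ B₂) := by
    constructor
    · intro h
      exact h₁.cand.1 (le_bot_iff.1 (h ▸ le_sup_left))
    · intro h
      rw [h, finrank_top] at s1
      omega
  have m2 := h₁.le _ c2
  have m3 := h₁.min _ c1 (by omega)
  have e1 : B₁ ⊓ B₂ = B₁ := Submodule.eq_of_le_of_finrank_le inf_le_left m3
  have e2 : B₁ ⊓ B₂ = B₂ := Submodule.eq_of_le_of_finrank_le inf_le_right (by omega)
  rw [← e1, e2]

omit [FiniteDimensional F L] in
/-- Scaling. -/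
theorem finrank_scale {x : L} (hx : x ≠ 0) (B : Submodule F L) : finrank F ↥(span F {x} * B) = finrank F B := by
  have h1 : span F {x} * B = B.map (LinearMap.mulLeft F x) := by
    ext z
    rw [Submodule.mem_span_singleton_mul, Submodule.mem_map]
    rfl
  rw [h1]
  exact (LinearEquiv.finrank_eq (Submodule.equivMapOfInjective (LinearMap.mulLeft F x)
    (mul_right_injective₀ hx) B)).symm

theorem scale_ne {x : L} (hx : x ≠ 0) {B : Submodule F L} : span F {x} * B ≠ ⊥ ↔ B ≠ ⊥ := by
  rw [ne_eq, ne_eq, ← Submodule.finrank_eq_zero, finrank_scale hx, Submodule.finrank_eq_zero]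

theorem scale_ne_top {x : L} (hx : x ≠ 0) {B : Submodule F L} : span F {x} * B ≠ ⊤ ↔ B ≠ ⊤ := by
  constructor
  · rintro h rfl
    apply h
    apply Submodule.eq_top_of_finrank_eq
    rw [finrank_scale hx, finrank_top]
  · intro h h'
    apply h
    apply Submodule.eq_top_of_finrank_eq
    rw [← finrank_scale hx, h', finrank_top]

theorem Atom.scale {B : Submodule F L} {κ : ℕ} (h : Atom A B κ) {x : L} (hx : x ≠ 0) :
    Atom A (span F {x} * B) κ := by
  have e : A * (span F {x} * B) = span F {x} * (A * B) := mul_left_comm _ _ _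
  refine ⟨⟨(scale_ne hx).2 h.cand.1, by rw [e]; exact (scale_ne_top hx).2 h.cand.2⟩, ?_, h.le, ?_⟩
  · rw [e, finrank_scale hx, finrank_scale hx]
    exact h.eq
  · intro B' h1 h2
    rw [finrank_scale hx]
    exact h.min B' h1 h2

/-- An atom containing `1` is closed under multiplication. -/
theorem Atom.mul_mem {B : Submodule F L} {κ : ℕ} (h : Atom A B κ) (h1 : (1 : L) ∈ B) {x y : L} (hx : x ∈ B)
    (hy : y ∈ B) : x * y ∈ B := by
  by_cases h0 : x = 0
  · rw [h0, zero_mul]
    exact B.zero_mem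
  have e : span F {x} * B = B := by
    refine (h.scale h0).eq_of_inf_ne_bot h fun hcon => h0 ?_
    have : x ∈ (span F {x} * B) ⊓ B :=
      ⟨Submodule.mem_span_singleton_mul.2 ⟨1, h1, mul_one x⟩, hx⟩
    rw [hcon] at this
    exact this
  rw [← e]
  exact Submodule.mem_span_singleton_mul.2 ⟨y, hy, rfl⟩

/-- **The linear isoperimetric inequality.** -/
theorem main (h1 : (1 : L) ∈ A) (h3 : 3 ≤ finrank F A) (hgen : ∀ S : Subalgebra F L, A ≤ Subalgebra.toSubmodule S → S = ⊤)
    {B : Submodule F L} (hB : B ≠ ⊥) (hAB : A * B ≠ ⊤) : finrank F B + 2 ≤ finrank F ↥(A * B) := by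
  obtain ⟨B₁, κ, hB₁, hκ⟩ := exists_atom h1 ⟨hB, hAB⟩
  suffices h : 2 ≤ κ by omega
  obtain ⟨b, hb, hb0⟩ := Submodule.exists_mem_ne_zero_of_ne_bot hB₁.cand.1
  have hat := hB₁.scale (inv_ne_zero hb0)
  set C := span F {b⁻¹} * B₁ with hC
  have hC1 : (1 : L) ∈ C := Submodule.mem_span_singleton_mul.2 ⟨b, hb, inv_mul_cancel₀ hb0⟩
  -- `C` is a subalgebra
  let S : Subalgebra F L :=
    { carrier := C
      mul_mem' := fun {x y} hx hy => hat.mul_mem hC1 hx hy
      add_mem' := fun {x y} hx hy => C.add_mem hx hy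
      algebraMap_mem' := fun r => by
        rw [Algebra.algebraMap_eq_smul_one]
        exact C.smul_mem r hC1 }
  by_cases hAC : A ≤ C
  · exfalso
    have hS : S = ⊤ := hgen S hAC
    have hCt : C = ⊤ := by
      rw [eq_top_iff]
      intro z _
      have : z ∈ S := hS ▸ Algebra.mem_top
      exact this
    apply hat.cand.2
    rw [eq_top_iff]
    exact (le_of_eq hCt.symm).trans (le_mul h1 C)
  · obtain ⟨a, ha, haC⟩ := Set.not_subset.1 hAC
    have ha' : a ∈ A := ha
    have haC' : a ∉ C := haC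
    have ha0 : a ≠ 0 := fun h => haC' (h ▸ C.zero_mem)
    have hinv : ∀ x ∈ C, x⁻¹ ∈ C := by
      intro x hx
      by_cases h0 : x = 0
      · rw [h0, inv_zero]; exact C.zero_mem
      have e : span F {x} * C = C := by
        refine (hat.scale h0).eq_of_inf_ne_bot hat fun hcon => h0 ?_
        have : x ∈ (span F {x} * C) ⊓ C :=
          ⟨Submodule.mem_span_singleton_mul.2 ⟨1, hC1, mul_one x⟩, hx⟩
        rw [hcon] at this
        exact this
      have h2 : (1 : L) ∈ span F {x} * C := by rw [e]; exact hC1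
      obtain ⟨z, hz, hz'⟩ := Submodule.mem_span_singleton_mul.1 h2
      rwa [← eq_inv_of_mul_eq_one_right hz']
    have hdis : C ⊓ span F {a} * C = ⊥ := by
      rw [eq_bot_iff]
      rintro z ⟨hz1, hz2⟩
      obtain ⟨w, hw, hw'⟩ := Submodule.mem_span_singleton_mul.1 hz2
      by_cases h0 : w = 0
      · rw [← hw', h0, mul_zero]; exact Submodule.zero_mem _
      · exfalso
        apply haC'
        have : a = z * w⁻¹ := by rw [← hw', mul_assoc, mul_inv_cancel₀ h0, mul_one]
        rw [this]
        exact hat.mul_mem hC1 hz1 (hinv w hw)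
    have hle : C ⊔ span F {a} * C ≤ A * C := by
      refine sup_le (le_mul h1 C) ?_
      refine mul_le_mul' ?_ le_rfl
      rw [Submodule.span_singleton_le_iff_mem]
      exact ha'
    have h4 := Submodule.finrank_mono hle
    have h5 := Submodule.finrank_sup_add_finrank_inf_eq C (span F {a} * C)
    rw [hdis, finrank_bot, finrank_scale ha0] at h5
    have h6 := hat.eq
    have h7 : 1 ≤ finrank F C := finrank_pos_of_ne_bot hat.cand.1
    by_cases h8 : finrank F C = 1
    · -- `C = F`
      have h9 : C = 1 := by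
        have h10 : (1 : Submodule F L) ≤ C := by
          rw [Submodule.one_le]
          exact hC1
        refine (Submodule.eq_of_le_of_finrank_le h10 ?_).symm
        rw [h8, Submodule.one_eq_span, finrank_span_singleton one_ne_zero]
      rw [h9, mul_one] at h6
      rw [h9] at h8
      omega
    · omega

end K320.IsoPer
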