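import Groth.Agent.Curves.K320.NodTan2
import Groth.Agent.Curves.K320.CompNorm
import Groth.Agent.CurvSt.K903.Facts
import Groth.Agent.CurvesC.DegTail519
import Groth.Agent.CurvesC.Asm1673
import Groth.Agent.CurvesC.TailUnion
import Groth.Agent.Ega2.WeightPull

/-!
# Nodal curves without tangent fields

`X` a connected proper nodal curve over an algebraically closed field on which every map `Ω_X → O_X` vanishes.

* `false_of_section`: the inverse of the dualizing module has no nonzero section on any irreducible component;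
* `false_of_deg_nonpos`: a component with `H¹(C, O_C) = 0` on which the dualizing module has degree `≤ 0` is impossible;
* `two_le_genus`, `not_tail`, `not_bridge`.
-/

set_option autoImplicit false
universe u
open CategoryTheory CategoryTheory.Limits AlgebraicGeometry TopologicalSpace Opposite

namespace K320.NoField

open Groth.Agent Groth.Agent.CurvesC Groth.Agent.Ega2.Weight Groth.Agent.Grpsch.PicGrp
open Groth.Agent.CurvesB.HZero
open Groth.Agent.Fdesc.LocGen hiding pullHom

theorem nonempty_dualizing (k : Type u) [Field k] (X : Scheme.{u}) [X.Over (Spec (CommRingCat.of k))]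
    [IsProper (X ↘ Spec (CommRingCat.of k))] (hdim : topologicalKrullDim X = 1)
    (hcomp : ∀ Z ∈ irreducibleComponents (X : Type u), topologicalKrullDim Z = 1) (hX : Curv2.AtWorstNodal k X) :
    Nonempty (K703.Duality.Dualizing k X) := by
  have hN : IsNoetherian X := CurvesC.CurveCoh.noetherianSpace k X
  obtain ⟨w, t, hw, h⟩ := Groth.Agent.LoccohA.TDRep.exists_repr k k X 1 (by exact_mod_cast hdim.le)
  have hd := isDual_of_raw h
  have hc : Coh.IsCoh w := Groth.Agent.VarietyB.DualCoh.isCoh k hdim.le hd hw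
  exact ⟨⟨w, _, DualInvNodal.isInvertible hcomp hX hd hc, hd⟩⟩

/-- On an integral proper curve with `H¹(O) = 0`, the inverse of a line bundle of degree `≤ 0` has a section. -/
theorem exists_section (k : Type u) [Field k] [IsAlgClosed k] (Z : Scheme.{u}) [Z.Over (Spec (CommRingCat.of k))]
    [IsProper (Z ↘ Spec (CommRingCat.of k))] [IsIntegral Z] (hdim : topologicalKrullDim Z = 1)
    (h1 : Subsingleton (Coh.HH Z (Coh.structureModule Z) 1)) {L M : Z.Modules} (hL : PicF.IsInvertible L)
    (hM : PicF.IsInvertible M) (e : mk L hL * mk M hM = 1) (hdeg : Curv2.deg k Z L 1 ≤ 0) :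
    ∃ s : Coh.structureModule Z ⟶ M, (CohB1.genLocus M s : Set Z).Nonempty := by
  have e1 : mk M hM = (mk L hL)⁻¹ := by rw [eq_inv_iff_mul_eq_one, mul_comm, e]
  have e2 := Etcore.DegZero.dg_inv k Z hdim (mk L hL)
  rw [← e1, ← K532.CurvePic.deg, ← K532.CurvePic.deg, K532.CurvePic.deg_mk k Z hdim hL,
    K532.CurvePic.deg_mk k Z hdim hM] at e2
  have h0 := VarietyA.CurveFin.finrank_h0_structure k Z
  have h3 : 0 ≤ Curv2.deg k Z M 1 := by rw [e2]; omega
  unfold Curv2.deg at h3
  rw [CurvesC.CurveCoh.euler_eq k Z hdim, CurvesC.CurveCoh.euler_eq k Z hdim, h0,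
    Module.finrank_zero_of_subsingleton (M := Coh.HH Z (Coh.structureModule Z) 1)] at h3
  have h4 : 0 < Module.finrank k (Coh.HH Z M 0) := by
    push_cast at h3
    omega
  have h5 : Nontrivial (Coh.HH Z M 0) := Module.nontrivial_of_finrank_pos h4
  obtain ⟨x, hx⟩ := exists_ne (0 : Coh.HH Z M 0)
  refine ⟨homOf (equivAdd M x), ?_⟩
  by_contra h
  rw [Set.not_nonempty_iff_eq_empty] at h
  have h6 := CurvesC.DegZeroSec512.eq_zero_of_genLocus_eq_bot hM _ (Opens.ext h)
  apply hx
  apply (equivAdd M).injective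
  rw [map_zero]
  have h7 : sec (homOf (equivAdd M x)) ⊤ = equivAdd M x := by rw [sec_homOf, res_refl]
  rw [← h7, h6]
  rfl

section Main

variable (k : Type u) [Field k] [IsAlgClosed k] (X : Scheme.{u}) [X.Over (Spec (CommRingCat.of k))]
  [IsProper (X ↘ Spec (CommRingCat.of k))] [IsReduced X]

theorem exists_of_section (hdim : topologicalKrullDim X = 1) (D : K703.Duality.Dualizing k X) {P : X.Modules}
    (hP : PicF.IsInvertible P) (e : CohB1.tensorMod D.w P ≅ Coh.structureModule X) (C : Set X)
    (hC : C ∈ irreducibleComponents (X : Type u)) (hC1 : topologicalKrullDim C = 1)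
    (s : Coh.structureModule (TailGeom.compIdeal C hC).subscheme ⟶
      (Scheme.Modules.pullback (TailGeom.compIdeal C hC).subschemeι).obj P)
    (hs : (CohB1.genLocus _ s : Set (TailGeom.compIdeal C hC).subscheme).Nonempty) :
    ∃ θ : Omega.sheaf (X ↘ Spec (CommRingCat.of k)) ⟶ Coh.structureModule X, θ ≠ 0 := by
  obtain ⟨Y, _, ν, hν, hfin, hY, hr, V, hV, hVne⟩ := CompNorm.exists_norm k X hdim.le C hC hC1
  have hint := hY.integral
  obtain ⟨π, hπ⟩ := Ega1.ReducedSub.exists_factor_of_range_subset ν (TailGeom.compIdeal C hC).subschemeι (by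
    rw [hr, TailGeom.range_comp])
  let s1 := pullHom π s
  let e2 : (Scheme.Modules.pullback π).obj
      ((Scheme.Modules.pullback (TailGeom.compIdeal C hC).subschemeι).obj P) ≅ (Scheme.Modules.pullback ν).obj P :=
    (Scheme.Modules.pullbackComp π _).app P ≪≫ (Scheme.Modules.pullbackCongr hπ).app P
  refine NodTan.exists_ne_zero k hdim.le D hP e ν hν hY V hV hVne (s1 ≫ e2.hom) ?_
  rw [genLocus_comp, genLocus_pullHom π (isInvertible_pullback _ hP) s]
  obtain ⟨x, hx⟩ := hs
  have h1 : (TailGeom.compIdeal C hC).subschemeι x ∈ Set.range ν := by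
    rw [hr]
    exact (TailGeom.range_comp C hC).le ⟨x, rfl⟩
  obtain ⟨y, hy⟩ := h1
  refine ⟨y, ?_⟩
  have h2 : π y = x := by
    apply (TailGeom.compIdeal C hC).subschemeι.isClosedEmbedding.injective
    rw [← hy, ← hπ, Scheme.Hom.comp_apply]
  change π y ∈ CohB1.genLocus _ s
  rw [h2]
  exact hx

theorem exists_of_deg_nonpos (hdim : topologicalKrullDim X = 1) (D : K703.Duality.Dualizing k X) (C : Set X)
    (hC : C ∈ irreducibleComponents (X : Type u)) (hC1 : topologicalKrullDim C = 1)
    (h1 : Subsingleton (Coh.HH (TailGeom.compIdeal C hC).subscheme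
      (Coh.structureModule (TailGeom.compIdeal C hC).subscheme) 1))
    (hdeg : @Curv2.deg k _ (TailGeom.compIdeal C hC).subscheme
      ⟨(TailGeom.compIdeal C hC).subschemeι ≫ (X ↘ (Spec (CommRingCat.of k)))⟩
        ((Scheme.Modules.pullback (TailGeom.compIdeal C hC).subschemeι).obj D.w) 1 ≤ 0) :
    ∃ θ : Omega.sheaf (X ↘ Spec (CommRingCat.of k)) ⟶ Coh.structureModule X, θ ≠ 0 := by
  obtain ⟨P, hP, ⟨e⟩⟩ := exists_inverse D.inv
  let _ : (TailGeom.compIdeal C hC).subscheme.Over (Spec (CommRingCat.of k)) :=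
    ⟨(TailGeom.compIdeal C hC).subschemeι ≫ (X ↘ (Spec (CommRingCat.of k)))⟩
  have hp : IsProper ((TailGeom.compIdeal C hC).subscheme ↘ Spec (CommRingCat.of k)) :=
    inferInstanceAs (IsProper ((TailGeom.compIdeal C hC).subschemeι ≫ (X ↘ (Spec (CommRingCat.of k)))))
  have hirr := TailGeom.irreducible_comp C hC
  have hint : IsIntegral (TailGeom.compIdeal C hC).subscheme := isIntegral_of_irreducibleSpace_of_isReduced _
  have hd : topologicalKrullDim (TailGeom.compIdeal C hC).subscheme = 1 := by
    rw [← Groth.Agent.VarietyB.DegComp.topologicalKrullDim_range_eq (TailGeom.compIdeal C hC).subschemeι,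
      TailGeom.range_comp]
    exact hC1
  obtain ⟨s, hs⟩ := exists_section k (TailGeom.compIdeal C hC).subscheme hd h1
    (isInvertible_pullback (TailGeom.compIdeal C hC).subschemeι D.inv)
    (isInvertible_pullback (TailGeom.compIdeal C hC).subschemeι hP) (by
      rw [← pull_mk _ D.inv, ← pull_mk _ hP, ← map_mul, mk_mul_mk, (mk_eq_one_iff _).mpr ⟨e⟩, map_one]) hdeg
  exact exists_of_section k X hdim D hP e C hC hC1 s hs

omit [IsAlgClosed k] [IsReduced X] in
/-- If `H¹(X, O_X) = 0` then `H¹(C, O_C) = 0`. -/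
theorem subsingleton_h1_comp (hdim : topologicalKrullDim X = 1) (hg : Curv2.genus k X = 0)
    (J : X.IdealSheafData) : Subsingleton (Coh.HH J.subscheme (Coh.structureModule J.subscheme) 1) := by
  have hN : IsNoetherian X := CurvesC.CurveCoh.noetherianSpace k X
  have h1 : Module.Finite k (Coh.HH X (Coh.structureModule X) 1) :=
    VarietyA.CurveFin.finite_HH k X isInvertible_structureModule 1
  have h2 : Subsingleton (Coh.HH X (Coh.structureModule X) 1) := by
    rw [← Module.finrank_eq_zero_iff_of_free (R := k)]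
    exact hg
  have h3 := CurvesB.SubH1.hmap_one_surjective_of_epi hdim.le (ClSub.toSubscheme J)
  have h4 : Subsingleton (Coh.HH X (ClSub.quotMod J) 1) := h3.subsingleton
  let _ : J.subscheme.Over (Spec (CommRingCat.of k)) := ⟨J.subschemeι ≫ (X ↘ (Spec (CommRingCat.of k)))⟩
  exact (TailNum.quotEquiv k X J 1).toEquiv.subsingleton_congr.mpr h4

omit [IsReduced X] in
theorem genLocus_id : CohB1.genLocus (Coh.structureModule X) (𝟙 (Coh.structureModule X)) = ⊤ :=
  top_le_iff.mp ((le_genLocus_iff _ _).mpr (isGen_one ⊤))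

variable (hdim : topologicalKrullDim X = 1) (hX : Curv2.AtWorstNodal k X)
  (h : ∀ θ : Omega.sheaf (X ↘ Spec (CommRingCat.of k)) ⟶ Coh.structureModule X, θ = 0)

include hdim hX h

theorem not_tail [ConnectedSpace X] (C : Set X) (hC : C ∈ irreducibleComponents (X : Type u)) :
    ¬ Curv2.IsRationalTail X C hC := by
  intro hCt
  have hcomp := K903.Facts.equi k X hdim hX
  obtain ⟨D⟩ := nonempty_dualizing k X hdim hcomp hX
  have h1 := DegTail519.tail_neg k hdim D.w D.inv D.isPair C hC hCt
  obtain ⟨θ, hθ⟩ := exists_of_deg_nonpos k X hdim D C hC (hcomp C hC) hCt.2.2.2.2.2 h1.le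
  exact hθ (h θ)

theorem not_bridge [ConnectedSpace X] (C : Set X) (hC : C ∈ irreducibleComponents (X : Type u)) :
    ¬ Curv2.IsRationalBridge k X C hC := by
  intro hCb
  have hcomp := K903.Facts.equi k X hdim hX
  obtain ⟨D⟩ := nonempty_dualizing k X hdim hcomp hX
  have h1 := DegTail519.bridge_zero k hdim D.w D.inv D.isPair C hC hCb
  obtain ⟨θ, hθ⟩ := exists_of_deg_nonpos k X hdim D C hC (hcomp C hC) hCb.2.2 h1.le
  exact hθ (h θ)

theorem genus_ne_zero [ConnectedSpace X] : Curv2.genus k X ≠ 0 := by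
  intro hg
  have hcomp := K903.Facts.equi k X hdim hX
  have h0 := K903.Facts.finrank_h0 k X hX
  obtain ⟨D⟩ := nonempty_dualizing k X hdim hcomp hX
  have h1 := D.deg_w hdim h0
  rw [hg] at h1
  have h2 : @Curv2.deg k _ (⊥ : X.IdealSheafData).subscheme
      ⟨(⊥ : X.IdealSheafData).subschemeι ≫ (X ↘ (Spec (CommRingCat.of k)))⟩
      ((Scheme.Modules.pullback (⊥ : X.IdealSheafData).subschemeι).obj D.w) 1 < 0 := by
    let _ : (⊥ : X.IdealSheafData).subscheme.Over (Spec (CommRingCat.of k)) :=
      ⟨(⊥ : X.IdealSheafData).subschemeι ≫ (X ↘ (Spec (CommRingCat.of k)))⟩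
    have h3 := DegIso.deg_pullback_iso k (asIso (⊥ : X.IdealSheafData).subschemeι) rfl D.w 1
    have h4 : Curv2.deg k (⊥ : X.IdealSheafData).subscheme
      ((Scheme.Modules.pullback (⊥ : X.IdealSheafData).subschemeι).obj D.w) 1 = Curv2.deg k X D.w 1 := h3
    rw [h4, h1]
    norm_num
  obtain ⟨C, hC, -, hC1, hneg⟩ := TailComp.exists_component_neg k X hdim.le ⊥ D.w D.inv h2
  obtain ⟨θ, hθ⟩ := exists_of_deg_nonpos k X hdim D C hC hC1 (subsingleton_h1_comp k X hdim hg _) hneg.le
  exact hθ (h θ)

theorem genus_ne_one [ConnectedSpace X] : Curv2.genus k X ≠ 1 := by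
  intro hg
  have hN : IsNoetherian X := CurvesC.CurveCoh.noetherianSpace k X
  have hcomp := K903.Facts.equi k X hdim hX
  have h0 := K903.Facts.finrank_h0 k X hX
  obtain ⟨D⟩ := nonempty_dualizing k X hdim hcomp hX
  have h1 := Asm1673.main k X hdim h0 hX (not_tail k X hdim hX h) D.w D.inv D.t' D.isPair (fun J _ hJ => by
    have h1 := DualDegForm.deg_form k hdim _ D.inv D.isPair J.support
      (TailUnion.subset_closure_interior hdim.le J hJ)
    rw [← TailUnion.eq_vanishingIdeal J] at h1
    exact h1)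
  obtain ⟨e⟩ := h1.1 hg
  obtain ⟨x⟩ : Nonempty X := inferInstance
  have hC := irreducibleComponent_mem_irreducibleComponents x
  obtain ⟨θ, hθ⟩ := exists_of_section k X hdim D isInvertible_structureModule
    (Groth.Agent.Ega2.Tens.runit D.w ≪≫ e) (irreducibleComponent x) hC (hcomp _ hC)
    (pullHom (TailGeom.compIdeal _ hC).subschemeι (𝟙 (Coh.structureModule X))) (by
      rw [genLocus_pullHom _ isInvertible_structureModule, genLocus_id]
      have := TailGeom.irreducible_comp _ hC
      exact ⟨Classical.arbitrary _, trivial⟩)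
  exact hθ (h θ)

theorem two_le_genus [ConnectedSpace X] : 2 ≤ Curv2.genus k X := by
  have h0 := genus_ne_zero k X hdim hX h
  have h1 := genus_ne_one k X hdim hX h
  omega

end Main

end K320.NoField
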