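import Groth.Agent.Curves.K314.RegPow
import Groth.Agent.OmegaSh.K583.DerFunct
import Groth.Agent.OmegaSh.K583.UnivAffine
import Groth.Agent.S5005
import Groth.Agent.CohqB.TwistMono
import Groth.Agent.Fdesc.LocGenGlue

/-!
# Direct images of differentials along a finite birational morphism onto a component

* `dpush`: the map `Ω_{X/S} → ν_* Ω_{Y/S}` for `ν : Y ⟶ X` over `S`;
* `isSmall_cokernel_dpush`: its cokernel is small if `ν` is an isomorphism over a nonempty open;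
* `isSmall_cokernel_mapT`: twisting by an invertible module preserves smallness of the cokernel.
-/

set_option autoImplicit false
universe u
open CategoryTheory CategoryTheory.Limits AlgebraicGeometry TopologicalSpace Opposite

namespace K320.NodTan

open Groth.Agent OmegaSh K583.DerFunct K583.UnivAffine
open Groth.Agent.CycB.StalkExact Groth.Agent.CurvesB.SubH1 Groth.Agent.CohqB.HSeqMod
open Groth.Agent.Fdesc.LocGen Groth.Agent.Ega2 Groth.Agent.Fga.RegSec

theorem isIso_app_of_le {X Y : Scheme.{u}} (ν : Y ⟶ X) (U : X.Opens) (h : IsIso (ν ∣_ U)) (V : X.Opens) (hV : V ≤ U) :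
    IsIso (ν.app V) := by
  have h1 : U.ι ''ᵁ (U.ι ⁻¹ᵁ V) = V := by
    rw [Scheme.Hom.image_preimage_eq_opensRange_inf]
    simpa using hV
  have h2 : IsIso ((ν ∣_ U).app (U.ι ⁻¹ᵁ V)) := inferInstance
  rw [morphismRestrict_app] at h2
  have h3 : IsIso (ν.app (U.ι ''ᵁ (U.ι ⁻¹ᵁ V))) := by
    refine @IsIso.of_isIso_comp_right _ _ _ _ _ (ν.app (U.ι ''ᵁ (U.ι ⁻¹ᵁ V))) _ ?_ h2
    exact Functor.map_isIso Y.presheaf _
  rw [h1] at h3
  exact h3

section Push

variable {X Y S : Scheme.{u}} (ν : Y ⟶ X) (f : X ⟶ S) (g : Y ⟶ S) (w : ν ≫ f = g)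

theorem sq {X Y S : Scheme.{u}} {ν : Y ⟶ X} {f : X ⟶ S} {g : Y ⟶ S} (w : ν ≫ f = g) : g ≫ 𝟙 S = ν ≫ f := by
  rw [Category.comp_id, w]

/-- The direct image of the map of differentials `Ω_{X/S} → ν_* Ω_{Y/S}`. -/
noncomputable def dpush [QuasiSeparated f] [QuasiSeparated g] : Omega.sheaf f ⟶ (Scheme.Modules.pushforward ν).obj (Omega.sheaf g) :=
  univLift (S5005.result f) (pushDer (sq w) (dOmega g))

theorem dpush_app [QuasiSeparated f] [QuasiSeparated g] (U : X.Opens) (a : Γ(X, U)) :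
    (dpush ν f g w).app U ((dOmega f).app U a) =
      (show Γ((Scheme.Modules.pushforward ν).obj (Omega.sheaf g), U) from
        (dOmega g).app (ν ⁻¹ᵁ U) (ν.app U a)) := by
  unfold dpush
  rw [univLift_app]
  rfl

theorem dpush_surjective [QuasiSeparated f] [QuasiSeparated g] [IsAffine S] {V : X.Opens}
    (hV : IsAffineOpen (ν ⁻¹ᵁ V)) (hs : Function.Surjective (ν.app V)) :
    Function.Surjective ((dpush ν f g w).app V) := by
  have h1 := (isAlgUniv_app (S5005.result g) hV (isAffineOpen_top S) le_top).span_eq_top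
  intro m
  have hm : (show Γ(Omega.sheaf g, ν ⁻¹ᵁ V) from m) ∈
      Submodule.span Γ(Y, ν ⁻¹ᵁ V) (Set.range ((dOmega g).app (ν ⁻¹ᵁ V))) := by
    rw [h1]; trivial
  have key : ∀ m' : Γ(Omega.sheaf g, ν ⁻¹ᵁ V), m' ∈
      Submodule.span Γ(Y, ν ⁻¹ᵁ V) (Set.range ((dOmega g).app (ν ⁻¹ᵁ V))) →
      ∃ x : Γ(Omega.sheaf f, V), (dpush ν f g w).app V x =
        (show Γ((Scheme.Modules.pushforward ν).obj (Omega.sheaf g), V) from m') := by
    intro m' hm'
    induction hm' using Submodule.span_induction with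
    | mem m' hm' =>
      obtain ⟨b, rfl⟩ := hm'
      obtain ⟨a, rfl⟩ := hs b
      exact ⟨_, dpush_app ν f g w V a⟩
    | zero => exact ⟨0, map_zero _⟩
    | add m₁ m₂ _ _ h₁ h₂ =>
      obtain ⟨x₁, e₁⟩ := h₁
      obtain ⟨x₂, e₂⟩ := h₂
      refine ⟨x₁ + x₂, ?_⟩
      rw [map_add, e₁, e₂]
      rfl
    | smul r m₁ _ h₁ =>
      obtain ⟨x₁, e₁⟩ := h₁
      obtain ⟨a, rfl⟩ := hs r
      refine ⟨a • x₁, ?_⟩
      rw [Scheme.Modules.Hom.app_smul, e₁]
      rfl
  exact key m hm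

/-- The cokernel of `Ω_{X/S} → ν_* Ω_{Y/S}` is small if `ν` is affine, closed and an isomorphism over some open set
which meets the image of `ν`, and `Y` is irreducible. -/
theorem isSmall_cokernel_dpush [QuasiSeparated f] [QuasiSeparated g] [IsAffine S] [IrreducibleSpace Y]
    [IsAffineHom ν] (hcl : IsClosed (Set.range ν)) (V : X.Opens) (hiso : IsIso (ν ∣_ V))
    (hV : ((ν ⁻¹ᵁ V : Y.Opens) : Set Y).Nonempty) : IsSmall (cokernel (dpush ν f g w)) := by
  intro ξ hξ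
  rw [VarietyA.StalkCrit.subsingleton_cokernel_stalk_iff]
  intro y
  obtain ⟨W, hξW, m, rfl⟩ := TopCat.Presheaf.exists_germ_eq
    ((Scheme.Modules.pushforward ν).obj (Omega.sheaf g)).presheaf y
  by_cases h : ξ ∈ V
  · obtain ⟨V', hV', hξV', hle⟩ := TopologicalSpace.Opens.isBasis_iff_nbhd.mp X.isBasis_affineOpens
      (show ξ ∈ W ⊓ V from ⟨hξW, h⟩)
    have hi : IsIso (ν.app V') := isIso_app_of_le ν V hiso V' (hle.trans inf_le_right)
    have hs : Function.Surjective (ν.app V') := ((ConcreteCategory.isIso_iff_bijective _).mp hi).2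
    obtain ⟨t, ht⟩ := dpush_surjective ν f g w (hV'.preimage ν) hs
      (res ((Scheme.Modules.pushforward ν).obj (Omega.sheaf g)) (hle.trans inf_le_left) m)
    refine ⟨(Omega.sheaf f).presheaf.germ V' ξ hξV' t, ?_⟩
    rw [stalkLin_germ, ht]
    exact germ_res' _ (hle.trans inf_le_left) hξV' m
  · have hη : ν (genericPoint Y) ∈ V := by
      have h1 := ((genericPoint_spec Y).mem_open_set_iff (ν ⁻¹ᵁ V).isOpen).mpr (by simpa using hV)
      exact h1
    have hξ' : ξ ∉ Set.range ν := by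
      rintro ⟨y, rfl⟩
      have h1 : ν (genericPoint Y) ⤳ ν y := ((genericPoint_spec Y).specializes trivial).map ν.continuous
      exact h (hξ _ h1 ▸ hη)
    let W' : X.Opens := ⟨(Set.range ν)ᶜ, hcl.isOpen_compl⟩
    have hW' : ν ⁻¹ᵁ (W ⊓ W') = ⊥ := by
      ext y
      simp only [Opens.coe_bot, Set.mem_empty_iff_false, iff_false]
      rintro ⟨-, h2⟩
      exact h2 ⟨y, rfl⟩
    have hsub : Subsingleton Γ((Scheme.Modules.pushforward ν).obj (Omega.sheaf g), W ⊓ W') := by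
      have h1 : Subsingleton Γ(Omega.sheaf g, (⊥ : Y.Opens)) :=
        ⟨fun _ _ => res_ext _ (ι := PEmpty.{1}) (V := ⊥) (fun i => i.elim) (fun i => i.elim) bot_le
          (fun i => i.elim)⟩
      rw [← hW'] at h1
      exact h1
    refine ⟨0, ?_⟩
    rw [map_zero, ← germ_res' _ (inf_le_left : W ⊓ W' ≤ W) (show ξ ∈ W ⊓ W' from ⟨hξW, hξ'⟩) m,
      show res ((Scheme.Modules.pushforward ν).obj (Omega.sheaf g)) (inf_le_left : W ⊓ W' ≤ W) m = 0 from
        Subsingleton.elim _ _, map_zero]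

end Push

section Twist

variable {X : Scheme.{u}}

theorem isSmall_cokernel_mapT {w F G : X.Modules} (hw : PicF.IsInvertible w) (ψ : F ⟶ G)
    (h : IsSmall (cokernel ψ)) : IsSmall (cokernel (Tens.mapT (𝟙 w) ψ)) := by
  intro ξ hξ
  have h1 := h ξ hξ
  rw [VarietyA.StalkCrit.subsingleton_cokernel_stalk_iff] at h1 ⊢
  intro y
  obtain ⟨W, hξW, m, rfl⟩ := TopCat.Presheaf.exists_germ_eq (CohB1.tensorMod w G).presheaf y
  obtain ⟨U, e, hU, he⟩ := (isInvertible_iff w).mp hw ξ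
  have hx : ξ ∈ W ⊓ U := ⟨hξW, hU⟩
  obtain ⟨n, hn⟩ := (tmul_left_bijective G he (inf_le_right : W ⊓ U ≤ U)).2
    (res (CohB1.tensorMod w G) (inf_le_left : W ⊓ U ≤ W) m)
  obtain ⟨t, ht⟩ := h1 (G.presheaf.germ (W ⊓ U) ξ hx n)
  obtain ⟨V, hξV, t, rfl⟩ := TopCat.Presheaf.exists_germ_eq F.presheaf t
  rw [stalkLin_germ] at ht
  obtain ⟨T, hξT, hTV, hTW, hres⟩ : ∃ (T : X.Opens) (_ : ξ ∈ T) (hTV : T ≤ V) (hTW : T ≤ W ⊓ U),
      res G hTV (ψ.app V t) = res G hTW n := by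
    obtain ⟨T, hξT, i, j, hij⟩ := TopCat.Presheaf.germ_eq G.presheaf ξ hξV hx _ _ ht
    exact ⟨T, hξT, i.le, j.le, hij⟩
  refine ⟨(CohB1.tensorMod w F).presheaf.germ T ξ hξT (tmul (res w (hTW.trans inf_le_right) e) (res F hTV t)), ?_⟩
  rw [stalkLin_germ, CohqB.TwistMono.mapT_tmul', app_res ψ, hres,
    show (𝟙 w : w ⟶ w).app T (res w (hTW.trans inf_le_right) e) = res w (hTW.trans inf_le_right) e from rfl,
    ← germ_res' (CohB1.tensorMod w G) (hTW.trans inf_le_left) hξT m,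
    ← Fdesc.LocGen.res_res (CohB1.tensorMod w G) (inf_le_left : W ⊓ U ≤ W) hTW, ← hn]
  simp only [res_tmul, Fdesc.LocGen.res_res]

end Twist

end K320.NodTan
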