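import Groth.Agent.Curves.K320.NodTan
import Groth.Agent.VBCurve.K703.Duality
import Groth.Agent.JacVar.K532.CurvePic
import Groth.Agent.Flat2E.FormalLift418
import Groth.Agent.VarietyB.ProjForm
import Groth.Agent.VarietyB.HHPush
import Groth.Agent.Fga.HodgePush
import Groth.Agent.Fga.SnapperTwist
import Groth.Agent.CurvesC.DegZeroSec512
import Groth.Agent.Vancyc.H878.OmegaRank

/-!
# Tangent fields from dualizing pairs

`exists_ne_zero`: `X` proper of dimension at most one over `k` with an invertible dualizing module `w`, `ν : Y ⟶ X`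
finite from a smooth proper curve, an isomorphism over a nonempty open of `X`; if `ν^* w⁻¹` has a section generating
somewhere then there is a nonzero map `Ω_X → O_X`.
-/

set_option autoImplicit false
universe u
open CategoryTheory CategoryTheory.Limits AlgebraicGeometry TopologicalSpace Opposite

namespace K320.NodTan

open Groth.Agent OmegaSh
open Groth.Agent.CurvesB.SubH1 Groth.Agent.CohqB.HSeqMod
open Groth.Agent.Fdesc.LocGen Groth.Agent.Ega2 Groth.Agent.Fga.RegSec Groth.Agent.Grpsch.PicGrp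

variable (k : Type u) [Field k] {X Y : Scheme.{u}} [X.Over (Spec (CommRingCat.of k))]
  [Y.Over (Spec (CommRingCat.of k))]

theorem isGen_eq [IsIntegral Y] {ξ : Y} (hξ : CurvesB.SubH1.IsGen ξ) : ξ = genericPoint Y :=
  (hξ _ ((genericPoint_spec Y).specializes trivial)).symm

theorem mem_genLocus [IsIntegral Y] {P : Y.Modules} (s : Coh.structureModule Y ⟶ P)
    (hs : (CohB1.genLocus P s : Set Y).Nonempty) {ξ : Y} (hξ : CurvesB.SubH1.IsGen ξ) :
    ξ ∈ CohB1.genLocus P s := by
  rw [isGen_eq hξ]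
  refine ((genericPoint_spec Y).mem_open_set_iff (CohB1.genLocus P s).isOpen).mpr ?_
  rwa [Set.univ_inter]

/-- `H¹(Y, M ⊗ Ω_Y) ≠ 0` if the inverse of `M` has a nonzero section. -/
theorem not_subsingleton_h1 (hY : K532.CurvePic.IsCurve k Y) {M P : Y.Modules} (hM : PicF.IsInvertible M)
    (hP : PicF.IsInvertible P) (e : mk M hM * mk P hP = 1) (s : Coh.structureModule Y ⟶ P)
    (hs : (CohB1.genLocus P s : Set Y).Nonempty) :
    ¬ Subsingleton (Coh.HH Y (CohB1.tensorMod M (Omega.sheaf (Y ↘ Spec (CommRingCat.of k)))) 1) := by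
  have hint := hY.integral
  have hN := hY.noeth
  have hΩ := K532.CurvePic.isInvertible_omega hY
  intro hsub
  have h1 := K314.RegPow.surjective_H1_mulS hY.dim.le s (fun ξ hξ => mem_genLocus s hs hξ)
    (CohB1.tensorMod M (Omega.sheaf (Y ↘ Spec (CommRingCat.of k))))
    (CurvesB.SubPoint.isCoh_of_isInvertible (isInvertible_tensorMod hP (isInvertible_tensorMod hM hΩ))).2
  have h2 := h1.subsingleton
  have h3 : mk (CohB1.tensorMod P (CohB1.tensorMod M (Omega.sheaf (Y ↘ Spec (CommRingCat.of k)))))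
      (isInvertible_tensorMod hP (isInvertible_tensorMod hM hΩ)) = K532.CurvePic.om hY := by
    rw [← mk_mul_mk hP (isInvertible_tensorMod hM hΩ), ← mk_mul_mk hM hΩ, ← mul_assoc, mul_comm (mk P hP), e,
      one_mul]
    rfl
  obtain ⟨f⟩ := (mk_eq_iff _ hΩ).mp h3
  have h4 := Fga.HShift.subsingleton_of_iso f 1 h2
  have h5 := K532.CurvePic.h1_om hY
  rw [K532.CurvePic.om, K532.CurvePic.h_mk, Module.finrank_zero_of_subsingleton] at h5
  exact absurd h5 (by norm_num)

/-- Untwisting a map `w ⊗ F → w`. -/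
theorem exists_untwist {w P F : X.Modules} (e : CohB1.tensorMod w P ≅ Coh.structureModule X)
    (φ : CohB1.tensorMod w F ⟶ w) (hφ : φ ≠ 0) : ∃ θ : F ⟶ Coh.structureModule X, θ ≠ 0 := by
  have hf := Flat2E.FormalLift418.faithful_tw e
  let T := DCoh.tensorRightMod P
  let e1 : T.obj (CohB1.tensorMod w F) ≅ F :=
    Tens.mapTIso (Tens.swap w F) (Iso.refl P) ≪≫ Tens.assoc F w P ≪≫ Tens.mapTIso (Iso.refl F) e ≪≫ Tens.runit F
  let e2 : T.obj w ≅ Coh.structureModule X := e
  refine ⟨e1.inv ≫ T.map φ ≫ e2.hom, fun h => hφ ?_⟩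
  apply T.map_injective
  have h1 : e1.hom ≫ (e1.inv ≫ T.map φ ≫ e2.hom) ≫ e2.inv = 0 := by
    rw [h, zero_comp, comp_zero]
  rw [Category.assoc, Category.assoc, e2.hom_inv_id, Category.comp_id, e1.hom_inv_id_assoc] at h1
  rw [h1]
  have hz : T.map (0 : CohB1.tensorMod w F ⟶ w) = 0 := by
    have : T.PreservesZeroMorphisms := inferInstanceAs (Flat2E.FormalLift418.twEquiv e).functor.PreservesZeroMorphisms
    exact T.map_zero _ _
  exact hz.symm

/-- **A nonzero tangent field.** -/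
theorem exists_ne_zero [IsProper (X ↘ Spec (CommRingCat.of k))] (hdim : topologicalKrullDim X ≤ 1)
    (D : K703.Duality.Dualizing k X) {P : X.Modules} (hP : PicF.IsInvertible P)
    (e : CohB1.tensorMod D.w P ≅ Coh.structureModule X) (ν : Y ⟶ X)
    (hν : ν ≫ (X ↘ Spec (CommRingCat.of k)) = Y ↘ Spec (CommRingCat.of k)) [IsFinite ν]
    (hY : K532.CurvePic.IsCurve k Y) (V : X.Opens) (hiso : IsIso (ν ∣_ V))
    (hV : ((ν ⁻¹ᵁ V : Y.Opens) : Set Y).Nonempty)
    (s : Coh.structureModule Y ⟶ (Scheme.Modules.pullback ν).obj P) (hs : (CohB1.genLocus _ s : Set Y).Nonempty) :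
    ∃ θ : Omega.sheaf (X ↘ Spec (CommRingCat.of k)) ⟶ Coh.structureModule X, θ ≠ 0 := by
  have hint := hY.integral
  have hpY := hY.proper
  have hN : IsNoetherian X := CurvesC.CurveCoh.noetherianSpace k X
  have hΩY := K532.CurvePic.isInvertible_omega hY
  have h1 := not_subsingleton_h1 k hY (isInvertible_pullback ν D.inv) (isInvertible_pullback ν hP) (by
    rw [← pull_mk ν D.inv, ← pull_mk ν hP, ← map_mul, mk_mul_mk, (mk_eq_one_iff _).mpr ⟨e⟩, map_one]) s hs
  let ΩX := Omega.sheaf (X ↘ Spec (CommRingCat.of k))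
  let ΩY := Omega.sheaf (Y ↘ Spec (CommRingCat.of k))
  let N := CohB1.tensorMod ((Scheme.Modules.pullback ν).obj D.w) ΩY
  have hNi : PicF.IsInvertible N := isInvertible_tensorMod (isInvertible_pullback ν D.inv) hΩY
  have hNc : Coh.IsCoh N := CurvesB.SubPoint.isCoh_of_isInvertible hNi
  obtain ⟨f⟩ := VarietyB.HHPush.exists_linearEquiv ν k hν N hNc.1 1
  have h2 : ¬ Subsingleton (Coh.HH X ((Scheme.Modules.pushforward ν).obj N) 1) := fun h => h1
    (f.toEquiv.subsingleton_congr.mp h)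
  have hb : VarietyB.TensCoh.HasBases D.w :=
    VarietyB.TensCoh.HasBases.of_isFinLocFreeOfRank (Ega2.QCohLocal.isFinLocFreeOfRank_one_iff.mpr D.inv)
  let pr := VarietyB.ProjForm.projIso ν hb ΩY
  have h3 : ¬ Subsingleton (Coh.HH X (CohB1.tensorMod D.w ((Scheme.Modules.pushforward ν).obj ΩY)) 1) := fun h =>
    h2 (Fga.HShift.subsingleton_of_iso pr 1 h)
  have hsep : IsSeparated (X ↘ Spec (CommRingCat.of k)) := inferInstance
  have hsm := isSmall_cokernel_mapT D.inv _ (isSmall_cokernel_dpush ν (X ↘ Spec (CommRingCat.of k))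
    (Y ↘ Spec (CommRingCat.of k)) hν ν.isClosedMap.isClosed_range V hiso hV)
  have hcoh : Coh.IsCoh (CohB1.tensorMod D.w ((Scheme.Modules.pushforward ν).obj ΩY)) :=
    Fga.SnapperTwist.isCoh_tensor' D.inv (Fga.HodgePush.isCoh_push ν (CurvesB.SubPoint.isCoh_of_isInvertible hΩY))
  have h4 := K314.RegPow.surjective_H1_of_small hdim _ hcoh.2 hsm
  have h5 : ¬ Subsingleton (Coh.HH X (CohB1.tensorMod D.w ΩX) 1) := fun h => h3 h4.subsingleton
  have hq : Coh.IsQCoh (CohB1.tensorMod D.w ΩX) :=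
    (Fga.SnapperTwist.isCoh_tensor' D.inv (CurvesB.OmegaInv.isCoh_omega (X ↘ Spec (CommRingCat.of k)))).1
  obtain ⟨φ, hφ⟩ := D.exists_ne_zero hq h5
  exact exists_untwist e φ hφ

end K320.NodTan
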