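import Groth.Agent.Curves.K320.ValDim
import Groth.Agent.CurvesB.HZero
import Groth.Agent.CurvesB.InvEmb
import Groth.Agent.CurvesA.CurveDvr
import Groth.Agent.Ega2.SmoothBdry
import Groth.Agent.VarietyA.ResMap
import Mathlib.AlgebraicGeometry.AlgClosed.Basic

/-!
# Sections of an invertible module seen in the local ring of a closed point

`toStalk`: `H^0(X, L) → O_{X,x}`, linear over the base field, given by a local generator of `L`; it is injective on an
integral scheme.  At a closed point of a scheme locally of finite type over an algebraically closed field the local ring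
satisfies `ValDim.ResConst`.
-/

set_option autoImplicit false
universe u
open CategoryTheory CategoryTheory.Limits AlgebraicGeometry Opposite TopologicalSpace
open Groth.Agent.Fdesc.LocGen Groth.Agent.CurvesB.HZero Groth.Agent.CurvesB.InvEmb

namespace K320.PointVal

variable (k : Type u) [Field k] {X : Scheme.{u}} [X.Over (Spec (CommRingCat.of k))]

attribute [local instance] Curv2.stalkAlgebra

/-- the local expression of a global section in terms of a generator -/
noncomputable def coeffU {L : X.Modules} {U : X.Opens} {e : Γ(L, U)} (he : IsGen e) (s : Γ(L, ⊤)) : Γ(X, U) :=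
  (genEquiv he le_rfl).symm (res L le_top s)

theorem coeffU_smul_gen {L : X.Modules} {U : X.Opens} {e : Γ(L, U)} (he : IsGen e) (s : Γ(L, ⊤)) :
    coeffU he s • e = res L le_top s := by
  have := (genEquiv he (le_refl U)).apply_symm_apply (res L le_top s)
  rw [genEquiv_apply, res_refl] at this
  exact this

/-- Sections of `L` in the local ring at `x`. -/
noncomputable def toStalk {L : X.Modules} {U : X.Opens} {e : Γ(L, U)} (he : IsGen e) (x : X) (hx : x ∈ U) :
    Coh.HH X L 0 →ₗ[k] X.presheaf.stalk x where
  toFun s := X.presheaf.germ U x hx (coeffU he (equivAdd L s))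
  map_add' s t := by
    rw [map_add]
    unfold coeffU
    rw [map_add, map_add, map_add]
  map_smul' c s := by
    rw [equivAdd_smul_over]
    unfold coeffU
    rw [res_smul, map_smul, smul_eq_mul, map_mul]
    congr 1
    change X.presheaf.germ U x hx (X.presheaf.map (homOfLE le_top).op (gl k X c)) = _
    rw [X.presheaf.germ_res_apply]
    rfl

theorem toStalk_apply {L : X.Modules} {U : X.Opens} {e : Γ(L, U)} (he : IsGen e) (x : X) (hx : x ∈ U)
    (s : Coh.HH X L 0) : toStalk k he x hx s = X.presheaf.germ U x hx (coeffU he (equivAdd L s)) := rfl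

theorem toStalk_injective [IsIntegral X] {L : X.Modules} (hL : PicF.IsInvertible L) {U : X.Opens} {e : Γ(L, U)}
    (he : IsGen e) (x : X) (hx : x ∈ U) : Function.Injective (toStalk k he x hx) := by
  rw [injective_iff_map_eq_zero]
  intro s hs
  rw [toStalk_apply] at hs
  have h1 : coeffU he (equivAdd L s) = 0 := by
    apply germ_injective_of_isIntegral X (U := U) x hx
    rw [map_zero]
    exact hs
  have h2 : res L (le_top (a := U)) (equivAdd L s) = 0 := by
    rw [← coeffU_smul_gen he, h1, zero_smul]
  have h3 := (locEmb_of_isInvertible hL).eq_zero (le_top (a := U)) ⟨x, hx⟩ (equivAdd L s) h2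
  exact (map_eq_zero_iff _ (equivAdd L).injective).1 h3

/-- the constants fill the residue field at a closed point over an algebraically closed field -/
theorem resConst_stalk [IsAlgClosed k] [LocallyOfFiniteType (X ↘ Spec (CommRingCat.of k))] (x : X)
    (hx : IsClosed ({x} : Set X)) : ValDim.ResConst k (X.presheaf.stalk x) := by
  intro a
  have h1 : Function.Surjective (Curv2.resMap k X x) := by
    have h2 := Groth.Agent.VarietyA.ResMap.specMap_resMap k X x
    have h3 := SpecMap_residueFieldIsoBase_inv (X ↘ Spec (CommRingCat.of k)) x hx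
    rw [← h3] at h2
    have h4 := Spec.map_injective h2
    intro b
    refine ⟨(residueFieldIsoBase (X ↘ Spec (CommRingCat.of k)) x hx).hom b, ?_⟩
    have h5 : Curv2.resMap k X x = (residueFieldIsoBase (X ↘ Spec (CommRingCat.of k)) x hx).inv.hom := by
      rw [← h4]
      rfl
    rw [h5]
    exact congr($((residueFieldIsoBase (X ↘ Spec (CommRingCat.of k)) x hx).hom_inv_id) b)
  obtain ⟨c, hc⟩ := h1 (X.residue x a)
  refine ⟨c, ?_⟩
  rw [← IsLocalRing.residue_eq_zero_iff, map_sub, sub_eq_zero]
  exact hc.symm

/-- **The inequality `h^0(L) + h^0(L') ≤ h^0(L ⊗ L') + 1`** from a closed point whose local ring is a discrete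
valuation ring. -/
theorem finrank_add_le [IsAlgClosed k] [IsIntegral X] [LocallyOfFiniteType (X ↘ Spec (CommRingCat.of k))] (x : X)
    (hx : IsClosed ({x} : Set X)) [IsDiscreteValuationRing (X.presheaf.stalk x)]
    {L L' : X.Modules} (hL : PicF.IsInvertible L) (hL' : PicF.IsInvertible L')
    [Module.Finite k (Coh.HH X L 0)] [Module.Finite k (Coh.HH X L' 0)]
    [Module.Finite k (Coh.HH X (CohB1.tensorMod L L') 0)]
    [Nontrivial (Coh.HH X L 0)] [Nontrivial (Coh.HH X L' 0)] :
    Module.finrank k (Coh.HH X L 0) + Module.finrank k (Coh.HH X L' 0) ≤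
      Module.finrank k (Coh.HH X (CohB1.tensorMod L L') 0) + 1 := by
  obtain ⟨U₁, e₁, hx₁, he₁⟩ := (isInvertible_iff L).1 hL x
  obtain ⟨U₂, e₂, hx₂, he₂⟩ := (isInvertible_iff L').1 hL' x
  have he₁' := he₁.res (inf_le_left : U₁ ⊓ U₂ ≤ U₁)
  have he₂' := he₂.res (inf_le_right : U₁ ⊓ U₂ ≤ U₂)
  have he := he₁'.tmul he₂'
  have hx' : x ∈ U₁ ⊓ U₂ := ⟨hx₁, hx₂⟩
  refine ValDim.finrank_add_le (resConst_stalk k x hx) (toStalk k he₁' x hx')
    (toStalk_injective k hL he₁' x hx') (toStalk k he₂' x hx')
    (toStalk_injective k hL' he₂' x hx') (toStalk k he x hx') fun s t => ?_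
  refine ⟨(equivAdd (CohB1.tensorMod L L')).symm (tmul (equivAdd L s) (equivAdd L' t)), ?_⟩
  rw [toStalk_apply, toStalk_apply, toStalk_apply, ← map_mul]
  congr 1
  apply he.ext
  rw [coeffU_smul_gen, AddEquiv.apply_symm_apply, res_tmul, ← coeffU_smul_gen he₁', ← coeffU_smul_gen he₂',
    smul_tmul, tmul_smul, smul_smul]

end K320.PointVal
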