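import Groth.Agent.Prym5.K924.ProjAut
import Groth.Agent.CurvesB.HZero

/-!
# Morphisms to projective space with the same complete linear series

`exists_aut_of_iso`: if `i, j : X ⟶ P^n` over `k` have isomorphic pullbacks of `O(1)`, of which all sections come
from `P^n` by either morphism, then `i` and `j` differ by an automorphism of `P^n`.
-/

set_option autoImplicit false
universe u
open CategoryTheory CategoryTheory.Limits AlgebraicGeometry

namespace K320.ProjSame

open K924.ProjAut Groth.Agent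

section

variable {X Y : Scheme.{u}}

/-- Linear version of the pull-back of global sections followed by an isomorphism. -/
noncomputable def pLin {k : Type u} [Field k] {p : Y ⟶ Spec (CommRingCat.of k)}
    {q : X ⟶ Spec (CommRingCat.of k)} (f : X ⟶ Y) (hf : f ≫ p = q) (M : Y.Modules) {L : X.Modules}
    (θ : (Scheme.Modules.pullback f).obj M ⟶ L) :
    letI := modΓ p M
    letI := modΓ q L
    Γ(M, ⊤) →ₗ[k] Γ(L, ⊤) :=
  letI := modΓ p M
  letI := modΓ q L
  { toFun := fun m => θ.app ⊤ (pT f m)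
    map_add' := fun m m' => by rw [pT_add, map_add]
    map_smul' := fun a m => by
      change θ.app ⊤ (pT f (glo p a • m)) = glo q a • θ.app ⊤ (pT f m)
      rw [pT_glo, Scheme.Modules.Hom.app_smul, hf] }

theorem finrank_sections {k : Type u} [Field k] [X.Over (Spec (CommRingCat.of k))] (M : X.Modules) :
    letI := modΓ (X ↘ Spec (CommRingCat.of k)) M
    Module.finrank k Γ(M, ⊤) = Module.finrank k (Coh.HH X M 0) := by
  let := modΓ (X ↘ Spec (CommRingCat.of k)) M
  have h1 : Coh.HH X M 0 ≃ₗ[k] Γ(M, ⊤) := CurvesB.HZero.equivLin k M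
  exact h1.symm.finrank_eq

end

theorem exists_aut_of_iso (k : Type u) [Field k] (n : ℕ) {X : Scheme.{u}} [X.Over (Spec (CommRingCat.of k))]
    (i j : X ⟶ CohB1.ProjSpace n k)
    (hi : i ≫ CohB1.ProjSpace.toSpec n k = X ↘ Spec (CommRingCat.of k))
    (hj : j ≫ CohB1.ProjSpace.toSpec n k = X ↘ Spec (CommRingCat.of k))
    (θ : (Scheme.Modules.pullback j).obj (Twist.twistProjSpace n k 1) ≅
      (Scheme.Modules.pullback i).obj (Twist.twistProjSpace n k 1))
    (hW : Module.finrank k (Coh.HH X ((Scheme.Modules.pullback i).obj (Twist.twistProjSpace n k 1)) 0) = n + 1)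
    (hinj₁ : Function.Injective (pT i (M := Twist.twistProjSpace n k 1)))
    (hinj₂ : Function.Injective (pT j (M := Twist.twistProjSpace n k 1))) :
    ∃ σ : CohB1.ProjSpace n k ≅ CohB1.ProjSpace n k,
      σ.hom ≫ CohB1.ProjSpace.toSpec n k = CohB1.ProjSpace.toSpec n k ∧ i ≫ σ.hom = j := by
  let p₁ := X ↘ Spec (CommRingCat.of k)
  let O1 := Twist.twistProjSpace n k 1
  let L := (Scheme.Modules.pullback i).obj O1
  let := modΓ (CohB1.ProjSpace.toSpec n k) O1
  let := modΓ p₁ L
  obtain ⟨T₀, hT₀⟩ := exists_basis n k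
  have hW' : Module.finrank k Γ(L, ⊤) = n + 1 := (finrank_sections L).trans hW
  let a : Γ(O1, ⊤) →ₗ[k] Γ(L, ⊤) := pLin i hi O1 (𝟙 _)
  let b : Γ(O1, ⊤) →ₗ[k] Γ(L, ⊤) := pLin j hj O1 θ.hom
  have ha : Function.Injective a := hinj₁
  have hb : Function.Injective b := by
    intro m m' h
    have h2 := congrArg (θ.inv.app ⊤) h
    have h3 : ∀ z, θ.inv.app ⊤ (θ.hom.app ⊤ z) = z := fun z => by
      have : (θ.hom ≫ θ.inv).app ⊤ z = z := by rw [θ.hom_inv_id]; rfl
      exact this
    exact hinj₂ ((h3 _).symm.trans (h2.trans (h3 _)))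
  obtain ⟨c, c', h1, h2, h3⟩ := exists_matrix (Nat.succ_pos n) T₀ hW' a b ha hb
  have hcomb : ∀ x : Fin (n + 1) → k, ∑ j, x j • T₀ j = comb x := fun x => by
    unfold comb
    exact Finset.sum_congr rfl fun j _ => by rw [hT₀]; rfl
  simp_rw [hcomb] at h1 h2 h3
  obtain ⟨σ, τ, hσ, hτ⟩ := exists_aut c c' (fun i => (h2 i).trans (hT₀ i)) (fun i => (h3 i).trans (hT₀ i))
  obtain ⟨τ', hτ'⟩ := comp_map i σ.hom hσ c τ hτ (Iso.refl L)
  refine ⟨σ, hσ, ?_⟩
  refine ext_map (i ≫ σ.hom) j (by rw [Category.assoc, hσ, hi, hj]) τ' θ fun i => ?_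
  rw [hτ']
  refine (h1 i).trans ?_
  rw [hT₀]
  rfl

end K320.ProjSame
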