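import Groth.Agent.S5975
import Groth.Agent.S5005
import Groth.Agent.S9370
import Groth.Agent.Smoothlim.OmegaStalk
import Groth.Agent.VBCurve.K704.InvHom
import Groth.Agent.VarietyA.DegRank
import Groth.Agent.VarietyA.StalkCrit
import Groth.Agent.Ega2.QCohLocal

/-!
# The sequence of differentials of a generically separable morphism

* `exists_seq`: `f^* Ω_{Y/Z} → Ω_{X/Z} → Ω_{X/Y} → 0` for the conormal sheaves of the diagonals.
* `subsingleton_stalk`: the stalk of `Ω_{X/Y}` vanishes where the map of local rings is formally unramified.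
-/

set_option autoImplicit false
universe u
open CategoryTheory CategoryTheory.Limits AlgebraicGeometry Opposite TopologicalSpace

namespace K320.RamSeq

open Groth.Agent

theorem exists_seq {X Y Z : Scheme.{u}} (f : X ⟶ Y) (g : Y ⟶ Z) (p : X ⟶ Z) (hp : f ≫ g = p)
    [QuasiSeparated f] [QuasiSeparated g] [QuasiSeparated p] :
    ∃ (c : (Scheme.Modules.pullback f).obj (Omega.sheaf g) ⟶ Omega.sheaf p) (π : Omega.sheaf p ⟶ Omega.sheaf f)
      (w : c ≫ π = 0), Epi π ∧ (ShortComplex.mk c π w).Exact := by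
  subst hp
  obtain ⟨c, hc, -⟩ := S9370.result g (f ≫ g) f (𝟙 Z) (Category.comp_id _) (Omega.sheaf g) (OmegaSh.dOmega g)
    (S5005.result g) (Omega.sheaf (f ≫ g)) (OmegaSh.dOmega (f ≫ g)) (S5005.result (f ≫ g))
  obtain ⟨c₂, hc₂, -⟩ := S9370.result (f ≫ g) f (𝟙 X) g (by simp) (Omega.sheaf (f ≫ g))
    (OmegaSh.dOmega (f ≫ g)) (S5005.result (f ≫ g)) (Omega.sheaf f) (OmegaSh.dOmega f) (S5005.result f)
  obtain ⟨hepi, him⟩ := S5975.result f g (Omega.sheaf g) (OmegaSh.dOmega g)
    (S5005.result g) (Omega.sheaf (f ≫ g)) (OmegaSh.dOmega (f ≫ g)) (S5005.result (f ≫ g))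
    (Omega.sheaf f) (OmegaSh.dOmega f) (S5005.result f) c hc c₂ hc₂
  have w : c ≫ ((Scheme.Modules.pullbackId X).inv.app (Omega.sheaf (f ≫ g)) ≫ c₂) = 0 := by
    have h1 := kernelSubobject_arrow_comp ((Scheme.Modules.pullbackId X).inv.app (Omega.sheaf (f ≫ g)) ≫ c₂)
    rw [← imageSubobject_arrow_comp c, Category.assoc]
    have h2 : (imageSubobject c).arrow ≫
        ((Scheme.Modules.pullbackId X).inv.app (Omega.sheaf (f ≫ g)) ≫ c₂) = 0 := by
      rw [him]
      exact h1
    rw [h2, comp_zero]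
  refine ⟨c, (Scheme.Modules.pullbackId X).inv.app (Omega.sheaf (f ≫ g)) ≫ c₂, w, epi_comp _ _, ?_⟩
  rw [ShortComplex.exact_iff_image_eq_kernel]
  exact him

/-- The stalk of `Ω_{X/S}` vanishes where the map of local rings is formally unramified. -/
theorem subsingleton_stalk {X S : Scheme.{u}} (f : X ⟶ S) [QuasiSeparated f] (x : X)
    (h : letI := (f.stalkMap x).hom.toAlgebra; Algebra.FormallyUnramified (S.presheaf.stalk (f x)) (X.presheaf.stalk x)) :
    Subsingleton ((Omega.sheaf f).presheaf.stalk x) := by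
  obtain ⟨V, hV, hsV⟩ : ∃ V : S.Opens, IsAffineOpen V ∧ f x ∈ V := by
    obtain ⟨V, hV, hsV, -⟩ := TopologicalSpace.Opens.isBasis_iff_nbhd.mp S.isBasis_affineOpens
      (show f x ∈ (⊤ : S.Opens) from trivial)
    exact ⟨V, hV, hsV⟩
  obtain ⟨U, hU, hxU, hUV⟩ : ∃ U : X.Opens, IsAffineOpen U ∧ x ∈ U ∧ U ≤ f ⁻¹ᵁ V := by
    obtain ⟨U, hU, hxU, hUV⟩ := TopologicalSpace.Opens.isBasis_iff_nbhd.mp X.isBasis_affineOpens
      (show x ∈ f ⁻¹ᵁ V from hsV)
    exact ⟨U, hU, hxU, hUV⟩
  have hcomm : hU.fromSpec ≫ f = Spec.map (f.appLE V U hUV) ≫ hV.fromSpec :=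
    (IsAffineOpen.SpecMap_appLE_fromSpec f hV hU hUV).symm
  have key := Groth.Agent.Smoothlim.OmegaStalk.subsingleton_stalk_omega (f.appLE V U hUV) f
    hU.fromSpec hV.fromSpec hcomm (hU.primeIdealOf ⟨x, hxU⟩)
  rw [hU.fromSpec_primeIdealOf ⟨x, hxU⟩] at key
  refine key.2 ?_
  let R := Γ(S, V)
  let A := Γ(X, U)
  let R' := S.presheaf.stalk (f x)
  let A' := X.presheaf.stalk x
  let a1 : Algebra R A := (f.appLE V U hUV).hom.toAlgebra
  let a2 : Algebra R R' := TopCat.Presheaf.algebra_section_stalk S.presheaf ⟨f x, hsV⟩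
  let a3 : Algebra A A' := TopCat.Presheaf.algebra_section_stalk X.presheaf ⟨x, hxU⟩
  let a4 : Algebra R' A' := (f.stalkMap x).hom.toAlgebra
  let a5 : Algebra R A' := ((algebraMap A A').comp (algebraMap R A)).toAlgebra
  have t1 : IsScalarTower R A A' := IsScalarTower.of_algebraMap_eq' rfl
  have t2 : IsScalarTower R R' A' := by
    apply IsScalarTower.of_algebraMap_eq'
    have h1 : f.appLE V U hUV ≫ X.presheaf.germ U x hxU =
        S.presheaf.germ V (f x) hsV ≫ f.stalkMap x := by
      rw [Scheme.Hom.germ_stalkMap]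
      simp [Scheme.Hom.appLE]
    exact congr(($h1).hom)
  have l1 : IsLocalization.AtPrime R' (hV.primeIdealOf ⟨f x, hsV⟩).asIdeal :=
    hV.isLocalization_stalk ⟨f x, hsV⟩
  have l2 : IsLocalization.AtPrime A' (hU.primeIdealOf ⟨x, hxU⟩).asIdeal :=
    hU.isLocalization_stalk ⟨x, hxU⟩
  have key2 := Groth.Agent.Smoothlim.OmegaStalk.formallyUnramified_iff_subsingleton R A R' A'
    (hV.primeIdealOf ⟨f x, hsV⟩).asIdeal.primeCompl (hU.primeIdealOf ⟨x, hxU⟩).asIdeal.primeCompl
  exact key2.1 h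

/-- Generic vanishing of the relative differentials for a separable extension of function fields. -/
theorem subsingleton_generic {X Y : Scheme.{u}} [IsIntegral X] [IsIntegral Y] (f : X ⟶ Y) [QuasiSeparated f]
    (e : f (genericPoint X) = genericPoint Y)
    (h : letI := ((Y.presheaf.stalkSpecializes (specializes_of_eq e) ≫ f.stalkMap (genericPoint X)).hom).toAlgebra
      Algebra.IsSeparable Y.functionField X.functionField) :
    Subsingleton ((Omega.sheaf f).presheaf.stalk (genericPoint X)) := by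
  apply subsingleton_stalk
  let a1 : Algebra Y.functionField X.functionField :=
    ((Y.presheaf.stalkSpecializes (specializes_of_eq e) ≫ f.stalkMap (genericPoint X)).hom).toAlgebra
  let a2 : Algebra Y.functionField (Y.presheaf.stalk (f (genericPoint X))) :=
    (Y.presheaf.stalkSpecializes (specializes_of_eq e)).hom.toAlgebra
  let a3 : Algebra (Y.presheaf.stalk (f (genericPoint X))) X.functionField :=
    (f.stalkMap (genericPoint X)).hom.toAlgebra
  have t : IsScalarTower Y.functionField (Y.presheaf.stalk (f (genericPoint X))) X.functionField :=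
    IsScalarTower.of_algebraMap_eq' rfl
  have h1 : Algebra.IsSeparable Y.functionField X.functionField := h
  have h2 : Algebra.FormallyUnramified Y.functionField X.functionField :=
    Algebra.FormallyUnramified.of_isSeparable _ _
  exact Algebra.FormallyUnramified.of_restrictScalars Y.functionField _ _

end K320.RamSeq
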