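import Mathlib.RingTheory.DiscreteValuationRing.Basic
import Mathlib.LinearAlgebra.Dimension.Finrank
import Mathlib.LinearAlgebra.FiniteDimensional.Basic
import Mathlib.LinearAlgebra.FiniteDimensional.Lemmas
import Mathlib.Combinatorics.Additive.CauchyDavenport
import Mathlib.Tactic.Linarith

/-!
# Dimension of a product of two spaces of functions, by valuations

`A` is a discrete valuation ring which is a `k`-algebra such that every element of `A` is congruent to a constant
modulo the maximal ideal.  For finite-dimensional subspaces `V, W, U` (given by injective linear maps to `A`) with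
`V * W ⊆ U` one has `dim V + dim W ≤ dim U + 1`.
-/

set_option autoImplicit false
universe u v

namespace K320.ValDim

open IsDiscreteValuationRing
open scoped Pointwise

variable {k : Type u} [Field k] {A : Type v} [CommRing A] [IsDomain A] [IsDiscreteValuationRing A]
  [Algebra k A]

/-- every element is constant modulo the maximal ideal -/
def ResConst (k : Type u) [Field k] (A : Type v) [CommRing A] [IsLocalRing A] [Algebra k A] : Prop :=
  ∀ a : A, ∃ c : k, a - algebraMap k A c ∈ IsLocalRing.maximalIdeal A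

/-- Leading terms: two elements of the same finite valuation differ by a constant factor up to higher order. -/
theorem exists_sub_smul (h : ResConst k A) {f g : A} (hf : f ≠ 0) (hg : addVal A g = addVal A f) :
    ∃ c : k, addVal A f < addVal A (g - c • f) := by
  obtain ⟨ϖ, hϖ⟩ := exists_irreducible A
  obtain ⟨m, a, rfl⟩ := eq_unit_mul_pow_irreducible hf hϖ
  have hg0 : g ≠ 0 := by
    rintro rfl
    rw [addVal_zero] at hg
    exact hf ((addVal_eq_top_iff).1 hg.symm)
  obtain ⟨n, b, rfl⟩ := eq_unit_mul_pow_irreducible hg0 hϖ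
  rw [addVal_def' a hϖ, addVal_def' b hϖ] at hg
  have hmn : n = m := by exact_mod_cast hg
  subst hmn
  obtain ⟨c, hc⟩ := h ((b : A) * (↑a⁻¹ : A))
  refine ⟨c, ?_⟩
  have e : (b : A) * ϖ ^ n - c • ((a : A) * ϖ ^ n) =
      (((b : A) * (↑a⁻¹ : A)) - algebraMap k A c) * ((a : A) * ϖ ^ n) := by
    rw [Algebra.smul_def]
    have : (↑a⁻¹ : A) * (a : A) = 1 := Units.inv_mul a
    linear_combination (-(b : A) * ϖ ^ n) * this
  rw [e, addVal_mul (a := (b : A) * (↑a⁻¹ : A) - algebraMap k A c), addVal_def' a hϖ]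
  rw [(irreducible_iff_uniformizer ϖ).1 hϖ, Ideal.mem_span_singleton] at hc
  obtain ⟨d, hd⟩ := hc
  rw [hd, addVal_mul, addVal_uniformizer hϖ]
  have h1 : ((n : ℕ) : ℕ∞) < 1 + (n : ℕ) := by
    exact_mod_cast (by omega : n < 1 + n)
  refine lt_of_lt_of_le h1 ?_
  gcongr
  exact le_self_add

variable {V : Type*} [AddCommGroup V] [Module k V]

/-- A finite-dimensional space of functions takes as many valuations as its dimension. -/
theorem exists_finset (h : ResConst k A) [Module.Finite k V] (φ : V →ₗ[k] A) (hφ : Function.Injective φ) :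
    ∃ S : Finset ℕ, S.card = Module.finrank k V ∧ ∀ n ∈ S, ∃ x : V, addVal A (φ x) = n := by
  classical
  suffices H : ∀ (d : ℕ) (W : Submodule k V), Module.finrank k W = d →
      ∃ S : Finset ℕ, S.card = d ∧ ∀ n ∈ S, ∃ x ∈ W, addVal A (φ x) = n by
    obtain ⟨S, hS, hS'⟩ := H _ ⊤ rfl
    refine ⟨S, by rw [hS, finrank_top], fun n hn => ?_⟩
    obtain ⟨x, -, hx⟩ := hS' n hn
    exact ⟨x, hx⟩
  intro d
  induction d with
  | zero => exact fun W _ => ⟨∅, rfl, by simp⟩
  | succ d ih =>
    intro W hW
    -- an element of least valuation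
    have hex : ∃ n : ℕ, ∃ x ∈ W, addVal A (φ x) = n := by
      have : Nontrivial W := Module.nontrivial_of_finrank_pos (R := k) (by omega)
      obtain ⟨x, hx⟩ := exists_ne (0 : W)
      have hx0 : φ x ≠ 0 := (map_ne_zero_iff φ hφ).2 (by simpa using hx)
      have : addVal A (φ x) ≠ ⊤ := fun h0 => hx0 (addVal_eq_top_iff.1 h0)
      obtain ⟨n, hn⟩ := ENat.ne_top_iff_exists.1 this
      exact ⟨n, x, x.2, hn.symm⟩
    let n₀ := Nat.find hex
    obtain ⟨x₀, hx₀W, hx₀⟩ := Nat.find_spec hex
    have hmin : ∀ n : ℕ, (∃ x ∈ W, addVal A (φ x) = n) → n₀ ≤ n := fun n hn => Nat.find_min' hex hn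
    change addVal A (φ x₀) = (n₀ : ℕ∞) at hx₀
    have hx₀0 : φ x₀ ≠ 0 := by
      intro h0
      rw [h0, addVal_zero] at hx₀
      exact ENat.top_ne_natCast _ hx₀
    -- the elements of larger valuation
    let W' : Submodule k V :=
      { carrier := {x | x ∈ W ∧ (n₀ : ℕ∞) < addVal A (φ x)}
        add_mem' := fun {x y} hx hy => ⟨W.add_mem hx.1 hy.1, by
          rw [map_add]
          exact lt_of_lt_of_le (lt_min hx.2 hy.2) (addVal_add)⟩
        zero_mem' := ⟨W.zero_mem, by rw [map_zero, addVal_zero]; exact ENat.natCast_lt_top _⟩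
        smul_mem' := fun c x hx => ⟨W.smul_mem c hx.1, by
          rw [map_smul, Algebra.smul_def, addVal_mul]
          exact lt_of_lt_of_le hx.2 le_add_self⟩ }
    have hW'W : W' ≤ W := fun x hx => hx.1
    have hdec : W = W' ⊔ Submodule.span k {x₀} := by
      apply le_antisymm
      · intro x hx
        by_cases hlt : (n₀ : ℕ∞) < addVal A (φ x)
        · exact Submodule.mem_sup_left ⟨hx, hlt⟩
        · have hle : addVal A (φ x) ≤ n₀ := not_lt.1 hlt
          have hne : addVal A (φ x) ≠ ⊤ := ne_top_of_le_ne_top (ENat.natCast_ne_top _) hle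
          obtain ⟨n, hn⟩ := ENat.ne_top_iff_exists.1 hne
          have h1 := hmin n ⟨x, hx, hn.symm⟩
          have h2 : n ≤ n₀ := by rw [← hn] at hle; exact_mod_cast hle
          have h3 : n = n₀ := le_antisymm h2 h1
          obtain ⟨c, hc⟩ := exists_sub_smul h hx₀0 (g := φ x) (by rw [← hn, h3, hx₀])
          rw [← map_smul, ← map_sub, hx₀] at hc
          have : x = (x - c • x₀) + c • x₀ := by abel
          rw [this]
          exact Submodule.add_mem_sup ⟨W.sub_mem hx (W.smul_mem c hx₀W), hc⟩
            (Submodule.smul_mem _ c (Submodule.mem_span_singleton_self x₀))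
      · exact sup_le hW'W (by rw [Submodule.span_singleton_le_iff_mem]; exact hx₀W)
    have hx₀W' : x₀ ∉ W' := fun hx => absurd hx.2 (by rw [hx₀]; exact lt_irrefl _)
    have hdisj : Disjoint W' (Submodule.span k {x₀}) := by
      rw [Submodule.disjoint_span_singleton' (by rintro rfl; exact hx₀0 (map_zero φ))]
      exact hx₀W'
    have hfr : Module.finrank k W' = d := by
      have h1 := Submodule.finrank_sup_add_finrank_inf_eq W' (Submodule.span k {x₀})
      rw [← hdec, hdisj.eq_bot, finrank_bot, finrank_span_singleton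
        (by rintro rfl; exact hx₀0 (map_zero φ)), hW] at h1
      omega
    obtain ⟨S, hS, hS'⟩ := ih W' hfr
    have hn₀S : n₀ ∉ S := by
      intro hn
      obtain ⟨x, hx, hx'⟩ := hS' n₀ hn
      exact absurd hx.2 (by rw [hx']; exact lt_irrefl _)
    refine ⟨insert n₀ S, by rw [Finset.card_insert_of_notMem hn₀S, hS], fun n hn => ?_⟩
    rcases Finset.mem_insert.1 hn with rfl | hn
    · exact ⟨x₀, hx₀W, hx₀⟩
    · obtain ⟨x, hx, hx'⟩ := hS' n hn
      exact ⟨x, hx.1, hx'⟩

/-- Elements with distinct valuations are linearly independent. -/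
theorem card_le [Module.Finite k V] (φ : V →ₗ[k] A) (S : Finset ℕ)
    (hS : ∀ n ∈ S, ∃ x : V, addVal A (φ x) = n) : S.card ≤ Module.finrank k V := by
  classical
  suffices H : ∀ (d : ℕ) (S : Finset ℕ), S.card = d → ∀ W : Submodule k V,
      (∀ n ∈ S, ∃ x ∈ W, addVal A (φ x) = n) → d ≤ Module.finrank k W by
    have := H _ S rfl ⊤ (fun n hn => by
      obtain ⟨x, hx⟩ := hS n hn
      exact ⟨x, trivial, hx⟩)
    rwa [finrank_top] at this
  intro d
  induction d with
  | zero => exact fun S _ W _ => Nat.zero_le _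
  | succ d ih =>
    intro S hSc W hS
    have hne : S.Nonempty := Finset.card_pos.1 (by omega)
    let n₀ := S.min' hne
    have hn₀ : n₀ ∈ S := S.min'_mem hne
    obtain ⟨x₀, hx₀W, hx₀⟩ := hS n₀ hn₀
    let W' : Submodule k V :=
      { carrier := {x | x ∈ W ∧ (n₀ : ℕ∞) < addVal A (φ x)}
        add_mem' := fun {x y} hx hy => ⟨W.add_mem hx.1 hy.1, by
          rw [map_add]
          exact lt_of_lt_of_le (lt_min hx.2 hy.2) (addVal_add)⟩
        zero_mem' := ⟨W.zero_mem, by rw [map_zero, addVal_zero]; exact ENat.natCast_lt_top _⟩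
        smul_mem' := fun c x hx => ⟨W.smul_mem c hx.1, by
          rw [map_smul, Algebra.smul_def, addVal_mul]
          exact lt_of_lt_of_le hx.2 le_add_self⟩ }
    have h1 := ih (S.erase n₀) (by rw [Finset.card_erase_of_mem hn₀]; omega) W' (fun n hn => by
      obtain ⟨hn1, hn2⟩ := Finset.mem_erase.1 hn
      obtain ⟨x, hx, hx'⟩ := hS n hn2
      refine ⟨x, ⟨hx, ?_⟩, hx'⟩
      rw [hx']
      exact_mod_cast lt_of_le_of_ne (S.min'_le n hn2) (Ne.symm hn1))
    have hlt : W' < W := by
      refine lt_of_le_of_ne (fun x hx => hx.1) ?_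
      intro he
      have : x₀ ∈ W' := by rw [he]; exact hx₀W
      exact absurd this.2 (by rw [hx₀]; exact lt_irrefl _)
    have := Submodule.finrank_lt_finrank_of_lt hlt
    omega

/-- **Hopf's inequality** for spaces of functions. -/
theorem finrank_add_le (h : ResConst k A) {W U : Type*} [AddCommGroup W] [Module k W] [AddCommGroup U]
    [Module k U] [Module.Finite k V] [Module.Finite k W] [Module.Finite k U] [Nontrivial V] [Nontrivial W]
    (φ : V →ₗ[k] A) (hφ : Function.Injective φ) (ψ : W →ₗ[k] A) (hψ : Function.Injective ψ)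
    (θ : U →ₗ[k] A) (hmul : ∀ x y, ∃ z, θ z = φ x * ψ y) :
    Module.finrank k V + Module.finrank k W ≤ Module.finrank k U + 1 := by
  classical
  obtain ⟨S, hS, hS'⟩ := exists_finset h φ hφ
  obtain ⟨T, hT, hT'⟩ := exists_finset h ψ hψ
  have hV : 0 < Module.finrank k V := Module.finrank_pos
  have hW : 0 < Module.finrank k W := Module.finrank_pos
  have h1 : (S + T).card ≤ Module.finrank k U := by
    apply card_le θ
    intro n hn
    obtain ⟨a, ha, b, hb, rfl⟩ := Finset.mem_add.1 hn
    obtain ⟨x, hx⟩ := hS' a ha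
    obtain ⟨y, hy⟩ := hT' b hb
    obtain ⟨z, hz⟩ := hmul x y
    refine ⟨z, ?_⟩
    rw [hz, addVal_mul, hx, hy]
    rfl
  have h2 := cauchy_davenport_add_of_linearOrder_isCancelAdd (s := S) (t := T)
    (Finset.card_pos.1 (by omega)) (Finset.card_pos.1 (by omega))
  omega

end K320.ValDim
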